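import Cfsg.Agent.Fischer920.RackIso
import Cfsg.Agent.SporadicStructure.UnitTwo
import Cfsg.Agent.ClassicalGeometry.HermOrthonormal

set_option autoImplicit false

/-!
# Recognition of `PSU(n, 2)` from a commutation preserving bijection with the isotropic points of a
Hermitian space over the field with four elements
-/

namespace Cfsg.Agent.Fischer920.PsuEnd

open Cfsg Cfsg.Agent.SporadicStructure.FischerSpace Cfsg.Agent.SporadicStructure.UnitTwo
open Cfsg.Agent.LieClassical.HermBasic Cfsg.Agent.ClassicalGeometry.UnitTransv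

/-- A nondegenerate Hermitian form over the field with four elements, given by its values. -/
structure HermSp (F V : Type*) [Field F] [AddCommGroup V] [Module F V] (h : V → V → F) :
    Prop where
  add_left : ∀ u u' v : V, h (u + u') v = h u v + h u' v
  smul_left : ∀ (c : F) (u v : V), h (c • u) v = c * h u v
  swap : ∀ u v : V, h v u = h u v ^ 2
  nondeg : ∀ u : V, (∀ v : V, h u v = 0) → u = 0

section Iso

variable {F V : Type*} [Field F] [Fintype F] [AddCommGroup V] [Module F V] {h : V → V → F}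

theorem HermSp.add_right (hF : Fintype.card F = 2 ^ 2) (H : HermSp F V h) (u v v' : V) :
    h u (v + v') = h u v + h u v' := by
  rw [H.swap, H.add_left, add_pow_q hF, ← H.swap, ← H.swap]

theorem HermSp.smul_right (H : HermSp F V h) (c : F) (u v : V) :
    h u (c • v) = c ^ 2 * h u v := by
  rw [H.swap, H.smul_left, mul_pow, ← H.swap]

theorem HermSp.sum_left (H : HermSp F V h) {ι : Type*} (s : Finset ι) (f : ι → V) (v : V) :
    h (∑ i ∈ s, f i) v = ∑ i ∈ s, h (f i) v := by
  classical
  induction s using Finset.induction_on with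
  | empty =>
    rw [Finset.sum_empty, Finset.sum_empty]
    have := H.smul_left 0 0 v
    rwa [zero_smul, zero_mul] at this
  | insert a s ha ih => rw [Finset.sum_insert ha, Finset.sum_insert ha, H.add_left, ih]

theorem HermSp.sum_right (hF : Fintype.card F = 2 ^ 2) (H : HermSp F V h) {ι : Type*}
    (s : Finset ι) (f : ι → V) (v : V) : h v (∑ i ∈ s, f i) = ∑ i ∈ s, h v (f i) := by
  classical
  induction s using Finset.induction_on with
  | empty =>
    rw [Finset.sum_empty, Finset.sum_empty]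
    have := H.smul_right 0 v 0
    rwa [zero_smul, zero_pow two_ne_zero, zero_mul] at this
  | insert a s ha ih => rw [Finset.sum_insert ha, Finset.sum_insert ha, H.add_right hF, ih]

/-- Every such space is isometric to the standard one. -/
theorem exists_isometry (hF : Fintype.card F = 2 ^ 2) (H : HermSp F V h) [FiniteDimensional F V]
    {n : ℕ} (hn : Module.finrank F V = n) :
    ∃ e : V ≃ₗ[F] (Fin n → F), ∀ u v : V, hermForm n F 2 (e u) (e v) = h u v := by
  classical
  subst hn
  let σ : F →+* F := (conj hF : F ≃+* F)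
  have hσa : ∀ x : F, σ x = x ^ 2 := fun x => conj_apply hF x
  let B : V →ₛₗ[σ] V →ₗ[F] F :=
    LinearMap.mk₂'ₛₗ σ (RingHom.id F) (fun x y => h y x)
      (fun x x' y => by rw [H.add_right hF])
      (fun c x y => by rw [H.smul_right, hσa]; rfl)
      (fun x y y' => by rw [H.add_left])
      (fun c x y => by rw [H.smul_left]; rfl)
  have hB : ∀ x y : V, B x y = h y x := fun x y => rfl
  have hσ : σ ≠ RingHom.id F := by
    obtain ⟨x, hx⟩ := exists_not_fixed hF
    intro hσ
    apply hx
    have := congrArg (fun f : F →+* F => f x) hσ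
    have h2 : σ x = x := this
    rw [← hσa, h2]
  have hσ2 : ∀ a : F, σ (σ a) = a := by
    intro a
    rw [hσa, hσa]
    exact pow_q_pow_q hF a
  have hS : B.IsSymm := by
    constructor
    intro x y
    rw [hB, hB, hσa, ← H.swap]
  have hsep : B.SeparatingLeft := by
    intro x hx
    apply H.nondeg
    intro y
    have h1 := hx y
    rw [hB, H.swap] at h1
    exact pow_eq_zero_iff two_ne_zero |>.1 h1
  obtain ⟨b, hb⟩ := Cfsg.Agent.ClassicalGeometry.HermOrthonormal.exists_orthonormal_basis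
    hσ hσ2 B hS hsep
  refine ⟨b.equivFun, ?_⟩
  intro u v
  have hu := b.sum_equivFun u
  have hv := b.sum_equivFun v
  rw [herm_def]
  conv_rhs => rw [← hu, ← hv]
  rw [H.sum_left]
  refine Finset.sum_congr rfl fun i _ => ?_
  rw [H.sum_right hF]
  rw [Finset.sum_eq_single i]
  · rw [H.smul_left, H.smul_right, ← hB, hb, if_pos rfl, mul_one]
  · intro j _ hj
    rw [H.smul_left, H.smul_right, ← hB, hb, if_neg hj, mul_zero, mul_zero]
  · intro hi
    exact absurd (Finset.mem_univ i) hi

end Iso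

section Model

variable {F : Type*} [Field F] [Fintype F] {n : ℕ} (hF : Fintype.card F = 2 ^ 2)
include hF

/-- The transvections of `SU n F 2`. -/
def Tset (n : ℕ) : Set (SU n F 2) :=
  {g | ∃ (v : Fin n → F) (hv : hermForm n F 2 v v = 0), v ≠ 0 ∧ g = T hF v hv}

theorem mem_Tset {g : SU n F 2} : g ∈ Tset hF n ↔
    ∃ (v : Fin n → F) (hv : hermForm n F 2 v v = 0), v ≠ 0 ∧ g = T hF v hv := Iff.rfl

theorem fdata_Tset (hn : 4 ≤ n) : FData (Tset hF n) := by
  apply fdata_of_class
  have h := isThreeTranspositionClass hF hn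
  have hset : {g : ↥(Cfsg.SU n F 2) |
      (((g : Matrix.SpecialLinearGroup (Fin n) F) : Matrix (Fin n) (Fin n) F) - 1).rank = 1}
      = Tset hF n := by
    ext g
    exact rank_one_iff hF g
  rwa [hset] at h

theorem smul_of_T_eq {v w : Fin n → F} (hv : hermForm n F 2 v v = 0)
    (hw : hermForm n F 2 w w = 0) (hv0 : v ≠ 0) (h : T hF v hv = T hF w hw) :
    ∃ c : F, v = c • w := by
  obtain ⟨x, hx⟩ := exists_herm_ne_zero hF hv0
  have hx' : hermForm n F 2 x v ≠ 0 := fun h' => hx (herm_eq_zero_swap hF h')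
  have h1 := act_T hF v hv x
  rw [h, act_T] at h1
  have h2 : hermForm n F 2 x w • w = hermForm n F 2 x v • v := add_left_cancel h1
  refine ⟨(hermForm n F 2 x v)⁻¹ * hermForm n F 2 x w, ?_⟩
  rw [mul_smul, h2, smul_smul, inv_mul_cancel₀ hx', one_smul]

theorem T_eq_of_smul {v w : Fin n → F} (hv : hermForm n F 2 v v = 0)
    (hw : hermForm n F 2 w w = 0) (hv0 : v ≠ 0) {c : F} (h : v = c • w) :
    T hF v hv = T hF w hw := by
  have hc : c ≠ 0 := by
    rintro rfl
    exact hv0 (by rw [h, zero_smul])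
  subst h
  exact T_smul hF c hc w hw hv

theorem commute_T {v w : Fin n → F} (hv : hermForm n F 2 v v = 0)
    (hw : hermForm n F 2 w w = 0) (hw0 : w ≠ 0) :
    Commute (T hF v hv) (T hF w hw) ↔ hermForm n F 2 v w = 0 := by
  constructor
  · intro hc
    have z : hermForm n F 2 (act (T hF v hv) w) (act (T hF v hv) w) = 0 := by rw [herm_act, hw]
    have h1 := conj_T hF (T hF v hv) w hw z
    rw [hc.eq, mul_inv_cancel_right] at h1
    obtain ⟨c, h2⟩ := smul_of_T_eq hF hw z hw0 h1
    rw [act_T] at h2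
    by_contra hne
    have hne' : hermForm n F 2 w v ≠ 0 := fun h' => hne (herm_eq_zero_swap hF h')
    -- `w = c • (w + h(w,v) • v)`, take `h(·, v)` and `h(·,w)`
    have h3 : hermForm n F 2 w v = c * hermForm n F 2 w v := by
      have := congrArg (fun x => hermForm n F 2 x v) h2
      simp only [herm_smul_left, herm_add_left, hv, mul_zero, add_zero] at this
      exact this
    have hc1 : c = 1 := by
      have : (c - 1) * hermForm n F 2 w v = 0 := by linear_combination -h3
      rcases mul_eq_zero.1 this with h4 | h4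
      · linear_combination h4
      · exact absurd h4 hne'
    rw [hc1, one_smul] at h2
    have h5 : hermForm n F 2 w v • v = 0 := by
      have : w + 0 = w + hermForm n F 2 w v • v := by rw [add_zero]; exact h2
      exact (add_left_cancel this).symm
    rcases smul_eq_zero.1 h5 with h6 | h6
    · exact hne' h6
    · apply hne
      rw [h6, herm_zero_left]
  · intro h
    have h' := herm_eq_zero_swap hF h
    apply ext_act
    intro x
    rw [act_mul, act_mul, act_T, act_T, act_T, act_T, herm_add_left, herm_add_left,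
      herm_smul_left, herm_smul_left, h, h', mul_zero, mul_zero, add_zero, add_zero,
      add_right_comm]

end Model

/-- **Recognition of `PSU(n, 2)`.** -/
theorem exists_equiv_psu {G : Type*} [Group G] {D : Set G} (h₁ : FData D)
    (hz : Subgroup.center G = ⊥)
    (hyp : ∀ a ∈ D, ∀ b ∈ D, ¬ Commute a b → ∀ c ∈ D,
      (∀ z ∈ D, Commute z a → Commute z b → Commute z c) → c = a ∨ c = b ∨ c = a * b * a)
    {F V : Type*} [Field F] [Fintype F] (hF : Fintype.card F = 4) [AddCommGroup V] [Module F V]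
    [FiniteDimensional F V] {h : V → V → F} (H : HermSp F V h) {n : ℕ}
    (hn' : Module.finrank F V = n) (hn : 4 ≤ n)
    (Ψ : G → V) (h0 : ∀ a ∈ D, Ψ a ≠ 0) (hiso : ∀ a ∈ D, h (Ψ a) (Ψ a) = 0)
    (hcomm : ∀ a ∈ D, ∀ b ∈ D, Commute a b ↔ h (Ψ a) (Ψ b) = 0)
    (hinj : ∀ a ∈ D, ∀ b ∈ D, ∀ c : F, Ψ a = c • Ψ b → a = b)
    (hsurj : ∀ v : V, v ≠ 0 → h v v = 0 → ∃ a ∈ D, ∃ c : F, v = c • Ψ a) :
    ∃ e : G ≃* PSU n F 2, ∀ g : G, g ∈ D ↔
      ∃ t : SU n F 2,
        (((t : Matrix.SpecialLinearGroup (Fin n) F) : Matrix (Fin n) (Fin n) F) - 1).rank = 1 ∧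
        e g = QuotientGroup.mk t := by
  have hF' : Fintype.card F = 2 ^ 2 := by rw [hF]; norm_num
  obtain ⟨ι, hι⟩ := exists_isometry hF' H hn'
  have hz0 : ∀ a ∈ D, hermForm n F 2 (ι (Ψ a)) (ι (Ψ a)) = 0 := by
    intro a ha
    rw [hι, hiso a ha]
  have hne : ∀ a ∈ D, ι (Ψ a) ≠ 0 := by
    intro a ha h2
    exact h0 a ha (ι.map_eq_zero_iff.1 h2)
  let f : ↥D → ↥(Tset hF' n) := fun a => ⟨T hF' (ι (Ψ a)) (hz0 a a.2),
    ι (Ψ a), hz0 a a.2, hne a a.2, rfl⟩
  have hf : Function.Bijective f := by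
    constructor
    · intro a b hab
      have h2 : T hF' (ι (Ψ a)) (hz0 a a.2) = T hF' (ι (Ψ b)) (hz0 b b.2) :=
        congrArg Subtype.val hab
      obtain ⟨c, hc⟩ := smul_of_T_eq hF' _ _ (hne a a.2) h2
      apply Subtype.ext
      apply hinj a a.2 b b.2 c
      apply ι.injective
      rw [hc, map_smul]
    · rintro ⟨g, v, hv, hv0, rfl⟩
      have h2 : h (ι.symm v) (ι.symm v) = 0 := by
        rw [← hι, ι.apply_symm_apply, hv]
      have h3 : ι.symm v ≠ 0 := by
        intro h4
        apply hv0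
        rw [← ι.apply_symm_apply v, h4, map_zero]
      obtain ⟨a, ha, c, hc⟩ := hsurj _ h3 h2
      refine ⟨⟨a, ha⟩, ?_⟩
      apply Subtype.ext
      show T hF' (ι (Ψ a)) (hz0 a ha) = T hF' v hv
      symm
      apply T_eq_of_smul hF' hv (hz0 a ha) hv0 (c := c)
      rw [← map_smul, ← hc, ι.apply_symm_apply]
  let φ : ↥D ≃ ↥(Tset hF' n) := Equiv.ofBijective f hf
  have hφ : ∀ a b : ↥D, Commute (a : G) b ↔ Commute (φ a : SU n F 2) (φ b) := by
    intro a b
    show _ ↔ Commute (T hF' (ι (Ψ a)) (hz0 a a.2)) (T hF' (ι (Ψ b)) (hz0 b b.2))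
    rw [commute_T hF' _ _ (hne b b.2), hι]
    exact hcomm a a.2 b b.2
  obtain ⟨e, he⟩ := RackIso.exists_equiv h₁ (fdata_Tset hF' hn) hz hyp φ hφ
  refine ⟨e, ?_⟩
  intro g
  constructor
  · intro hg
    refine ⟨T hF' (ι (Ψ g)) (hz0 g hg), ?_, ?_⟩
    · rw [rank_one_iff hF']
      exact ⟨_, _, hne g hg, rfl⟩
    · exact he ⟨g, hg⟩
  · rintro ⟨t, ht, hgt⟩
    rw [rank_one_iff hF'] at ht
    obtain ⟨a, ha⟩ := φ.surjective ⟨t, ht⟩
    have h2 := he a
    rw [ha] at h2
    have h3 : (a : G) = g := e.injective (by rw [h2, hgt])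
    rw [← h3]
    exact a.2

end Cfsg.Agent.Fischer920.PsuEnd
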