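import Mathlib
import Cfsg.Agent.SporadicStructure.FischerSpace

set_option autoImplicit false

/-!
# Isomorphisms of 3-transposition classes give isomorphisms of the groups modulo centres
-/

namespace Cfsg.Agent.Fischer920.RackIso

open Cfsg Cfsg.Agent.SporadicStructure.FischerSpace

section ConjPerm

variable {G : Type*} [Group G] {D : Set G}

/-- The action by conjugation on a set closed under conjugation. -/
def conjPerm (hc : ∀ g : G, ∀ x ∈ D, g * x * g⁻¹ ∈ D) : G →* Equiv.Perm ↥D where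
  toFun g :=
    { toFun := fun x => ⟨g * x * g⁻¹, hc g x x.2⟩
      invFun := fun x => ⟨g⁻¹ * x * g⁻¹⁻¹, hc g⁻¹ x x.2⟩
      left_inv := by
        intro x
        apply Subtype.ext
        show g⁻¹ * (g * (x : G) * g⁻¹) * g⁻¹⁻¹ = x
        group
      right_inv := by
        intro x
        apply Subtype.ext
        show g * (g⁻¹ * (x : G) * g⁻¹⁻¹) * g⁻¹ = x
        group }
  map_one' := by
    ext x
    show (1 : G) * (x : G) * (1 : G)⁻¹ = x
    group
  map_mul' := by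
    intro a b
    ext x
    show (a * b) * (x : G) * (a * b)⁻¹ = a * (b * (x : G) * b⁻¹) * a⁻¹
    group

theorem conjPerm_apply (hc : ∀ g : G, ∀ x ∈ D, g * x * g⁻¹ ∈ D) (g : G) (x : ↥D) :
    ((conjPerm hc g x : ↥D) : G) = g * x * g⁻¹ := rfl

theorem ker_conjPerm (hc : ∀ g : G, ∀ x ∈ D, g * x * g⁻¹ ∈ D) (hgen : Subgroup.closure D = ⊤) :
    (conjPerm hc).ker = Subgroup.center G := by
  ext g
  rw [MonoidHom.mem_ker, Subgroup.mem_center_iff]
  constructor
  · intro h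
    have h1 : ∀ x ∈ D, x * g = g * x := by
      intro x hx
      have h2 := congrArg (fun σ : Equiv.Perm ↥D => ((σ ⟨x, hx⟩ : ↥D) : G)) h
      have h3 : g * x * g⁻¹ = x := h2
      rw [mul_inv_eq_iff_eq_mul] at h3
      exact h3.symm
    have hle : Subgroup.closure D ≤ Subgroup.centralizer {g} := by
      rw [Subgroup.closure_le]
      intro x hx
      rw [SetLike.mem_coe, Subgroup.mem_centralizer_singleton_iff]
      exact h1 x hx
    intro y
    have hy : y ∈ Subgroup.closure D := by rw [hgen]; trivial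
    have := hle hy
    rw [Subgroup.mem_centralizer_singleton_iff] at this
    exact this
  · intro h
    ext x
    show g * (x : G) * g⁻¹ = x
    rw [← h x, mul_inv_cancel_right]

theorem range_conjPerm (hc : ∀ g : G, ∀ x ∈ D, g * x * g⁻¹ ∈ D)
    (hgen : Subgroup.closure D = ⊤) :
    (conjPerm hc).range = Subgroup.closure (Set.range fun x : ↥D => conjPerm hc (x : G)) := by
  rw [MonoidHom.range_eq_map, ← hgen, MonoidHom.map_closure]
  congr 1
  ext σ
  constructor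
  · rintro ⟨x, hx, rfl⟩
    exact ⟨⟨x, hx⟩, rfl⟩
  · rintro ⟨x, rfl⟩
    exact ⟨x, x.2, rfl⟩

end ConjPerm

variable {G₁ G₂ : Type*} [Group G₁] [Group G₂] {D₁ : Set G₁} {D₂ : Set G₂}

/-- If `φ : D₁ ≃ D₂` is compatible with conjugation then `G₁ ⧸ Z(G₁) ≃* G₂ ⧸ Z(G₂)`. -/
theorem exists_equiv_quotient (hc₁ : ∀ g : G₁, ∀ x ∈ D₁, g * x * g⁻¹ ∈ D₁)
    (hc₂ : ∀ g : G₂, ∀ x ∈ D₂, g * x * g⁻¹ ∈ D₂) (hg₁ : Subgroup.closure D₁ = ⊤)
    (hg₂ : Subgroup.closure D₂ = ⊤) (φ : ↥D₁ ≃ ↥D₂)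
    (hφ : ∀ a b : ↥D₁, ((φ ⟨(a : G₁) * b * (a : G₁)⁻¹, hc₁ a b b.2⟩ : ↥D₂) : G₂)
      = (φ a : G₂) * φ b * (φ a : G₂)⁻¹) :
    ∃ e : (G₁ ⧸ Subgroup.center G₁) ≃* (G₂ ⧸ Subgroup.center G₂),
      ∀ a : ↥D₁, e (QuotientGroup.mk (a : G₁)) = QuotientGroup.mk ((φ a : ↥D₂) : G₂) := by
  -- the isomorphism of the symmetric groups
  let Φ : Equiv.Perm ↥D₁ ≃* Equiv.Perm ↥D₂ := φ.permCongrHom
  have hΦ : ∀ a : ↥D₁, Φ (conjPerm hc₁ (a : G₁)) = conjPerm hc₂ ((φ a : ↥D₂) : G₂) := by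
    intro a
    ext y
    show ((φ (conjPerm hc₁ (a : G₁) (φ.symm y)) : ↥D₂) : G₂) = _
    rw [conjPerm_apply]
    have := hφ a (φ.symm y)
    rw [φ.apply_symm_apply] at this
    rw [← this]
    rfl
  have hrange : ((conjPerm hc₁).range).map Φ.toMonoidHom = (conjPerm hc₂).range := by
    rw [range_conjPerm hc₁ hg₁, range_conjPerm hc₂ hg₂, MonoidHom.map_closure]
    congr 1
    ext σ
    constructor
    · rintro ⟨_, ⟨a, rfl⟩, rfl⟩
      exact ⟨φ a, (hΦ a).symm⟩
    · rintro ⟨b, rfl⟩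
      refine ⟨_, ⟨φ.symm b, rfl⟩, ?_⟩
      have := hΦ (φ.symm b)
      rw [φ.apply_symm_apply] at this
      exact this
  let E₁ : (G₁ ⧸ Subgroup.center G₁) ≃* (conjPerm hc₁).range :=
    (QuotientGroup.quotientMulEquivOfEq (ker_conjPerm hc₁ hg₁).symm).trans
      (QuotientGroup.quotientKerEquivRange (conjPerm hc₁))
  let E₂ : (G₂ ⧸ Subgroup.center G₂) ≃* (conjPerm hc₂).range :=
    (QuotientGroup.quotientMulEquivOfEq (ker_conjPerm hc₂ hg₂).symm).trans
      (QuotientGroup.quotientKerEquivRange (conjPerm hc₂))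
  let M : (conjPerm hc₁).range ≃* (conjPerm hc₂).range :=
    (Φ.subgroupMap (conjPerm hc₁).range).trans (MulEquiv.subgroupCongr hrange)
  refine ⟨(E₁.trans M).trans E₂.symm, ?_⟩
  intro a
  show E₂.symm (M (E₁ (QuotientGroup.mk (a : G₁)))) = _
  rw [MulEquiv.symm_apply_eq]
  apply Subtype.ext
  exact hΦ a

/-- If a bijection of 3-transposition classes preserves commutation and the hyperbolic lines of the
first class are `{a, b, a * b * a}`, then it is compatible with conjugation. -/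
theorem compat_of_commute (h₁ : FData D₁) (h₂ : FData D₂)
    (hyp : ∀ a ∈ D₁, ∀ b ∈ D₁, ¬ Commute a b → ∀ c ∈ D₁,
      (∀ z ∈ D₁, Commute z a → Commute z b → Commute z c) → c = a ∨ c = b ∨ c = a * b * a)
    (φ : ↥D₁ ≃ ↥D₂) (hφ : ∀ a b : ↥D₁, Commute (a : G₁) b ↔ Commute (φ a : G₂) (φ b)) :
    ∀ a b : ↥D₁, ((φ ⟨(a : G₁) * b * (a : G₁)⁻¹, h₁.conj a b b.2⟩ : ↥D₂) : G₂)
      = (φ a : G₂) * φ b * (φ a : G₂)⁻¹ := by
  intro a b
  rw [h₂.inv_eq (φ a).2]
  by_cases hab : Commute (a : G₁) b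
  · have h3 : (⟨(a : G₁) * b * (a : G₁)⁻¹, h₁.conj a b b.2⟩ : ↥D₁) = b := by
      apply Subtype.ext
      show (a : G₁) * b * (a : G₁)⁻¹ = b
      rw [hab.eq, mul_inv_cancel_right]
    rw [h3]
    exact ((h₂.commute_iff (φ a).2 _).1 ((hφ a b).1 hab)).symm
  · have hab' : ¬ Commute (φ a : G₂) (φ b) := fun h => hab ((hφ a b).2 h)
    -- the third point in `D₂`
    let c' : ↥D₂ := ⟨(φ a : G₂) * φ b * φ a, h₂.conj' (φ a).2 (φ b).2⟩
    obtain ⟨c, hc⟩ := φ.surjective c'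
    have h4 : (c : G₁) = a ∨ (c : G₁) = b ∨ (c : G₁) = a * b * a := by
      apply hyp a a.2 b b.2 hab c c.2
      intro z hz hza hzb
      have h5 := (hφ ⟨z, hz⟩ a).1 hza
      have h6 := (hφ ⟨z, hz⟩ b).1 hzb
      apply (hφ ⟨z, hz⟩ c).2
      rw [hc]
      exact (h5.mul_right h6).mul_right h5
    have h7 : (c : G₁) = a * b * a := by
      rcases h4 with h | h | h
      · exfalso
        apply hab'
        have h8 : c = a := Subtype.ext h
        rw [h8] at hc
        have h9 : (φ a : G₂) = (φ a : G₂) * φ b * φ a := congrArg Subtype.val hc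
        have h10 : (1 : G₂) = φ b * φ a := by
          have : (φ a : G₂) * 1 = φ a * (φ b * φ a) := by rw [mul_one, ← mul_assoc]; exact h9
          exact mul_left_cancel this
        have h11 : (φ b : G₂) = φ a := by
          have := h₂.inv_eq (φ a).2
          rw [← this]
          exact eq_inv_of_mul_eq_one_left h10.symm
        rw [h11]
      · exfalso
        apply hab'
        have h8 : c = b := Subtype.ext h
        rw [h8] at hc
        have h9 : (φ b : G₂) = (φ a : G₂) * φ b * φ a := congrArg Subtype.val hc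
        exact (h₂.commute_iff (φ a).2 _).2 h9.symm
      · exact h
    have h8 : (⟨(a : G₁) * b * (a : G₁)⁻¹, h₁.conj a b b.2⟩ : ↥D₁) = c := by
      apply Subtype.ext
      show (a : G₁) * b * (a : G₁)⁻¹ = c
      rw [h₁.inv_eq a.2, h7]
    rw [h8, hc]

/-- **Commutation preserving bijections give isomorphisms** (the first group has trivial centre). -/
theorem exists_equiv (h₁ : FData D₁) (h₂ : FData D₂) (hz : Subgroup.center G₁ = ⊥)
    (hyp : ∀ a ∈ D₁, ∀ b ∈ D₁, ¬ Commute a b → ∀ c ∈ D₁,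
      (∀ z ∈ D₁, Commute z a → Commute z b → Commute z c) → c = a ∨ c = b ∨ c = a * b * a)
    (φ : ↥D₁ ≃ ↥D₂) (hφ : ∀ a b : ↥D₁, Commute (a : G₁) b ↔ Commute (φ a : G₂) (φ b)) :
    ∃ e : G₁ ≃* (G₂ ⧸ Subgroup.center G₂),
      ∀ a : ↥D₁, e (a : G₁) = QuotientGroup.mk ((φ a : ↥D₂) : G₂) := by
  obtain ⟨e, he⟩ := exists_equiv_quotient h₁.conj h₂.conj h₁.gen h₂.gen φ
    (compat_of_commute h₁ h₂ hyp φ hφ)
  let E : G₁ ≃* (G₁ ⧸ Subgroup.center G₁) :=
    (QuotientGroup.quotientBot (G := G₁)).symm.trans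
      (QuotientGroup.quotientMulEquivOfEq hz.symm)
  refine ⟨E.trans e, ?_⟩
  intro a
  rw [← he a]
  rfl

end Cfsg.Agent.Fischer920.RackIso
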