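import Cfsg.Agent.Fischer920.PsuEnd

set_option autoImplicit false

/-!
# The Hermitian space of a Gram matrix over the field with four elements
-/

namespace Cfsg.Agent.Fischer920.Gram

open Cfsg Cfsg.Agent.SporadicStructure.UnitTwo
open Cfsg.Agent.LieClassical.HermBasic Cfsg.Agent.Fischer920.PsuEnd

universe u v w

section GramSpace

variable {P : Type u} {F : Type v} [Field F] [Fintype F]

/-- The map given by a matrix. -/
def gramMap [Fintype P] (H : P → P → F) : (P → F) →ₗ[F] (P → F) where
  toFun a := fun y => ∑ z, a z * H z y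
  map_add' a b := by
    funext y
    simp only [Pi.add_apply, add_mul, Finset.sum_add_distrib]
  map_smul' c a := by
    funext y
    simp only [Pi.smul_apply, smul_eq_mul, RingHom.id_apply, Finset.mul_sum, mul_assoc]

omit [Fintype F] in
theorem gramMap_apply [Fintype P] (H : P → P → F) (a : P → F) (y : P) :
    gramMap H a y = ∑ z, a z * H z y := rfl

theorem sum_sq (hF : Fintype.card F = 2 ^ 2) {ι : Type*} (s : Finset ι) (f : ι → F) :
    (∑ i ∈ s, f i) ^ 2 = ∑ i ∈ s, f i ^ 2 := by
  classical
  have h2 := two_eq_zero hF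
  induction s using Finset.induction_on with
  | empty => rw [Finset.sum_empty, Finset.sum_empty]; ring
  | insert a s ha ih =>
    rw [Finset.sum_insert ha, Finset.sum_insert ha, ← ih]
    linear_combination f a * (∑ i ∈ s, f i) * h2

theorem gram_key [Fintype P] (hF : Fintype.card F = 2 ^ 2) {H : P → P → F}
    (hs : ∀ a b, H b a = H a b ^ 2) (a b : P → F) :
    ∑ z, a z * (gramMap H b z) ^ 2 = ∑ y, b y ^ 2 * gramMap H a y := by
  have e1 : ∀ z, a z * (gramMap H b z) ^ 2 = ∑ y, a z * (b y ^ 2 * H z y) := by
    intro z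
    rw [gramMap_apply, sum_sq hF, Finset.mul_sum]
    refine Finset.sum_congr rfl fun y _ => ?_
    rw [mul_pow, ← hs]
  have e2 : ∀ y, b y ^ 2 * gramMap H a y = ∑ z, a z * (b y ^ 2 * H z y) := by
    intro y
    rw [gramMap_apply, Finset.mul_sum]
    refine Finset.sum_congr rfl fun z _ => ?_
    ring
  rw [Finset.sum_congr rfl fun z _ => e1 z, Finset.sum_congr rfl fun y _ => e2 y,
    Finset.sum_comm]

/-- **The space of a Gram matrix.** -/
theorem exists_gram [Finite P] (hF : Fintype.card F = 4) (H : P → P → F)
    (hs : ∀ a b, H b a = H a b ^ 2) :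
    ∃ (V : Type (max u v)) (_ : AddCommGroup V) (_ : Module F V) (_ : FiniteDimensional F V)
      (h : V → V → F) (x : P → V), HermSp F V h ∧ (∀ a b, h (x a) (x b) = H a b) ∧
      Submodule.span F (Set.range x) = ⊤ := by
  classical
  haveI : Fintype P := Fintype.ofFinite P
  have hF' : Fintype.card F = 2 ^ 2 := by rw [hF]; norm_num
  let V : Submodule F (P → F) := LinearMap.range (gramMap H)
  have hpre : ∀ m : V, ∃ a : P → F, gramMap H a = (m : P → F) := fun m => m.2
  choose pre hpre using hpre
  let h : V → V → F := fun m n => ∑ z, pre m z * ((n : P → F) z) ^ 2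
  have hdef : ∀ m n : V, h m n = ∑ z, pre m z * ((n : P → F) z) ^ 2 := fun _ _ => rfl
  have key : ∀ (m n : V) (b : P → F), gramMap H b = (n : P → F) →
      h m n = ∑ y, b y ^ 2 * (m : P → F) y := by
    intro m n b hb
    rw [hdef, ← hb, gram_key hF' hs, hpre]
  have hx : ∀ p : P, gramMap H (Pi.single p 1) ∈ V := fun p => ⟨_, rfl⟩
  refine ⟨V, inferInstance, inferInstance, inferInstance, h, fun p => ⟨_, hx p⟩, ?_, ?_, ?_⟩
  · constructor
    · intro m m' n
      rw [key m n _ (hpre n), key m' n _ (hpre n), key (m + m') n _ (hpre n),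
        ← Finset.sum_add_distrib]
      refine Finset.sum_congr rfl fun y _ => ?_
      rw [Submodule.coe_add, Pi.add_apply, mul_add]
    · intro c m n
      rw [key m n _ (hpre n), key (c • m) n _ (hpre n), Finset.mul_sum]
      refine Finset.sum_congr rfl fun y _ => ?_
      rw [Submodule.coe_smul, Pi.smul_apply, smul_eq_mul]
      ring
    · intro m n
      rw [key m n _ (hpre n), hdef, sum_sq hF']
      refine Finset.sum_congr rfl fun y _ => ?_
      have h4 := Cfsg.Agent.SporadicStructure.UnitTwo.pow_four hF' (pre n y)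
      linear_combination -((m : P → F) y) ^ 2 * h4
    · intro m hm
      apply Subtype.ext
      funext y
      have h1 := hm ⟨_, hx y⟩
      rw [key m ⟨_, hx y⟩ (Pi.single y 1) rfl, Finset.sum_eq_single y] at h1
      · rw [Pi.single_eq_same, one_pow, one_mul] at h1
        exact h1
      · intro z _ hz
        rw [Pi.single_eq_of_ne hz]; ring
      · intro hy
        exact absurd (Finset.mem_univ y) hy
  · intro a b
    rw [key ⟨_, hx a⟩ ⟨_, hx b⟩ (Pi.single b 1) rfl, Finset.sum_eq_single b]
    · rw [Pi.single_eq_same, one_pow, one_mul]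
      change gramMap H (Pi.single a 1) b = H a b
      rw [gramMap_apply, Finset.sum_eq_single a]
      · rw [Pi.single_eq_same, one_mul]
      · intro z _ hz
        rw [Pi.single_eq_of_ne hz, zero_mul]
      · intro hy
        exact absurd (Finset.mem_univ a) hy
    · intro z _ hz
      rw [Pi.single_eq_of_ne hz]; ring
    · intro hy
      exact absurd (Finset.mem_univ b) hy
  · rw [eq_top_iff]
    rintro ⟨m, a, rfl⟩ _
    have e : (⟨gramMap H a, ⟨a, rfl⟩⟩ : V) = ∑ p, a p • (⟨_, hx p⟩ : V) := by
      apply Subtype.ext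
      rw [Submodule.coe_sum]
      funext y
      rw [Finset.sum_apply]
      change ∑ z, a z * H z y = _
      refine Finset.sum_congr rfl fun p _ => ?_
      rw [Submodule.coe_smul, Pi.smul_apply, smul_eq_mul]
      congr 1
      change H p y = gramMap H (Pi.single p 1) y
      rw [gramMap_apply, Finset.sum_eq_single p]
      · rw [Pi.single_eq_same, one_mul]
      · intro z _ hz
        rw [Pi.single_eq_of_ne hz, zero_mul]
      · intro hy
        exact absurd (Finset.mem_univ p) hy
    rw [e]
    apply Submodule.sum_mem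
    intro p _
    apply Submodule.smul_mem
    apply Submodule.subset_span
    exact ⟨p, rfl⟩

end GramSpace

section Total

variable {F : Type v} {V : Type w} [Field F] [Fintype F] [AddCommGroup V] [Module F V]
  {h : V → V → F}

/-- The orthogonal sum with a hyperbolic plane, on `F × V × F`. -/
def totalForm (h : V → V → F) (x y : F × V × F) : F :=
  x.1 * y.2.2 ^ 2 + x.2.2 * y.1 ^ 2 + h x.2.1 y.2.1

omit [Fintype F] [AddCommGroup V] [Module F V] in
theorem totalForm_def (x y : F × V × F) :
    totalForm h x y = x.1 * y.2.2 ^ 2 + x.2.2 * y.1 ^ 2 + h x.2.1 y.2.1 := rfl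

theorem total_hermSp (hF : Fintype.card F = 4) (H : HermSp F V h) :
    HermSp F (F × V × F) (totalForm h) := by
  have hF' : Fintype.card F = 2 ^ 2 := by rw [hF]; norm_num
  have h2 := two_eq_zero hF'
  have h4 : ∀ x : F, x ^ 4 = x := Cfsg.Agent.SporadicStructure.UnitTwo.pow_four hF'
  have h00 : ∀ v : V, h v 0 = 0 := by
    intro v
    have := H.smul_right 0 v 0
    rwa [zero_smul, zero_pow two_ne_zero, zero_mul] at this
  constructor
  · intro x x' y
    rw [totalForm_def, totalForm_def, totalForm_def, Prod.fst_add, Prod.snd_add, Prod.fst_add,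
      Prod.snd_add, H.add_left]
    ring
  · intro c x y
    rw [totalForm_def, totalForm_def, Prod.smul_fst, Prod.smul_snd, Prod.smul_fst,
      Prod.smul_snd, H.smul_left, smul_eq_mul, smul_eq_mul]
    ring
  · intro x y
    rw [totalForm_def, totalForm_def, H.swap x.2.1 y.2.1]
    have e1 := h4 x.1
    have e2 := h4 x.2.2
    have e3 := h4 y.1
    have e4 := h4 y.2.2
    generalize x.1 = a at *
    generalize x.2.2 = c at *
    generalize y.1 = a' at *
    generalize y.2.2 = c' at *
    generalize h x.2.1 y.2.1 = t
    linear_combination -a ^ 2 * e4 - c ^ 2 * e3 -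
      (a * c' ^ 2 * c * a' ^ 2 + a * c' ^ 2 * t + c * a' ^ 2 * t) * h2
  · intro x hx
    have e1 := hx (0, 0, 1)
    have e2 := hx (1, 0, 0)
    rw [totalForm_def] at e1 e2
    simp only [h00, one_pow, mul_one, add_zero, ne_eq, OfNat.ofNat_ne_zero, not_false_eq_true,
      zero_pow, mul_zero, zero_add] at e1 e2
    have e3 : x.2.1 = 0 := by
      apply H.nondeg
      intro v
      have := hx (0, v, 0)
      rw [totalForm_def] at this
      simp only [ne_eq, OfNat.ofNat_ne_zero, not_false_eq_true,
        zero_pow, mul_zero, zero_add] at this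
      exact this
    exact Prod.ext e1 (Prod.ext e3 e2)

omit [Fintype F] in
theorem total_finrank [FiniteDimensional F V] :
    Module.finrank F (F × V × F) = Module.finrank F V + 2 := by
  rw [Module.finrank_prod, Module.finrank_prod, Module.finrank_self]
  ring

end Total

end Cfsg.Agent.Fischer920.Gram
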