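import Cfsg.Agent.Fischer920.LemmaU

set_option autoImplicit false

/-!
# The central extension of a Hermitian space over the field with four elements

A group `N` with a central involution `w` and `N / ⟨w⟩` a Hermitian space over the field with four
elements such that squaring is given by the form, and with a system of "good" lifts of the
isotropic vectors, has a coordinate `κ : N → F` with `κ (a * b) = κ a + κ b + h (μ a) (μ b)`,
and the good elements are those with `κ a = 0`.
-/

namespace Cfsg.Agent.Fischer920.Kappa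

open Cfsg Cfsg.Agent.SporadicStructure.UnitTwo
open Cfsg.Agent.LieClassical.HermBasic Cfsg.Agent.Fischer920.PsuEnd

section Extension

variable {N V : Type*} [Group N] [AddCommGroup V]

/-- the twisted product -/
@[ext]
structure Ext (N : Type*) where
  /-- first component -/
  fst : N
  /-- second component -/
  snd : ZMod 2

/-- the group structure on the twisted product -/
@[reducible]
def extGroup (μ : N → V) (hμ : ∀ a b : N, μ (a * b) = μ a + μ b) (b : V → V → ZMod 2)
    (hbl : ∀ u u' v : V, b (u + u') v = b u v + b u' v)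
    (hbr : ∀ u v v' : V, b u (v + v') = b u v + b u v') : Group (Ext N) :=
  letI : Mul (Ext N) := ⟨fun x y => ⟨x.fst * y.fst, x.snd + y.snd + b (μ x.fst) (μ y.fst)⟩⟩
  letI : One (Ext N) := ⟨⟨1, 0⟩⟩
  letI : Inv (Ext N) := ⟨fun x => ⟨x.fst⁻¹, x.snd + b (μ x.fst) (μ x.fst)⟩⟩
  have hmul : ∀ x y : Ext N,
      x * y = ⟨x.fst * y.fst, x.snd + y.snd + b (μ x.fst) (μ y.fst)⟩ := fun _ _ => rfl
  have hone : (1 : Ext N) = ⟨1, 0⟩ := rfl
  have hinv : ∀ x : Ext N, x⁻¹ = ⟨x.fst⁻¹, x.snd + b (μ x.fst) (μ x.fst)⟩ := fun _ => rfl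
  have h1 : μ 1 = 0 := by
    have := hμ 1 1
    rw [one_mul] at this
    exact left_eq_add.1 this
  have hb0 : ∀ v, b 0 v = 0 := by
    intro v
    have := hbl 0 0 v
    rw [add_zero] at this
    exact left_eq_add.1 this
  have h2 : ∀ s : ZMod 2, s + s = 0 := by decide
  Group.ofLeftAxioms
    (by
      intro x y z
      rw [hmul, hmul, hmul, hmul]
      ext
      · exact mul_assoc _ _ _
      · simp only [hμ, hbl, hbr]
        ring)
    (by
      intro x
      rw [hmul, hone]
      ext
      · exact one_mul _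
      · simp only [h1, hb0]
        ring)
    (by
      intro x
      rw [hmul, hone, hinv]
      ext
      · exact inv_mul_cancel _
      · have h3 : μ x.fst⁻¹ + μ x.fst = 0 := by rw [← hμ, inv_mul_cancel, h1]
        have h4 : b (μ x.fst⁻¹) (μ x.fst) + b (μ x.fst) (μ x.fst) = 0 := by
          rw [← hbl, h3, hb0]
        simp only
        have h5 := h2 x.snd
        linear_combination h5 + h4)

/-- The extension lemma: a group `N` with central subgroup `{1, w}` whose quotient is an
elementary abelian group, and a bilinear form `b` giving the squares in `N`, has a coordinate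
with cocycle `b`. -/
theorem exists_section (μ : N → V) (hμ : ∀ a b : N, μ (a * b) = μ a + μ b) (w : N)
    (hw1 : w ≠ 1) (hker : ∀ a : N, μ a = 0 ↔ a = 1 ∨ a = w) (b : V → V → ZMod 2)
    (hbl : ∀ u u' v : V, b (u + u') v = b u v + b u' v)
    (hbr : ∀ u v v' : V, b u (v + v') = b u v + b u v')
    (hsq0 : ∀ a : N, b (μ a) (μ a) = 0 → a * a = 1)
    (hsq1 : ∀ a : N, b (μ a) (μ a) ≠ 0 → a * a = w) :
    ∃ κ : N → ZMod 2, (∀ a c : N, κ (a * c) = κ a + κ c + b (μ a) (μ c)) ∧ κ w = 1 := by
  letI : Group (Ext N) := extGroup μ hμ b hbl hbr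
  have hmul : ∀ x y : Ext N,
      x * y = ⟨x.fst * y.fst, x.snd + y.snd + b (μ x.fst) (μ y.fst)⟩ := fun _ _ => rfl
  have hone : (1 : Ext N) = ⟨1, 0⟩ := rfl
  have h1 : μ 1 = 0 := (hker 1).2 (Or.inl rfl)
  have hw0 : μ w = 0 := (hker w).2 (Or.inr rfl)
  have hb0 : ∀ v, b 0 v = 0 := by
    intro v
    have := hbl 0 0 v
    rw [add_zero] at this
    exact left_eq_add.1 this
  have hb0' : ∀ v, b v 0 = 0 := by
    intro v
    have := hbr v 0 0
    rw [add_zero] at this
    exact left_eq_add.1 this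
  have hww : w * w = 1 := hsq0 w (by rw [hw0, hb0])
  have hwc : ∀ a : N, a * w = w * a := by
    intro a
    have h3 : μ (a * w * a⁻¹) = 0 := by
      have h4 : μ (a * a⁻¹) = 0 := by rw [mul_inv_cancel, h1]
      rw [hμ] at h4
      rw [hμ, hμ, hw0, add_zero, h4]
    rcases (hker _).1 h3 with h4 | h4
    · exact absurd (conj_eq_one_iff.1 h4) hw1
    · calc a * w = (a * w * a⁻¹) * a := by group
        _ = w * a := by rw [h4]
  let d : Ext N := ⟨w, 1⟩
  have hd : d = ⟨w, 1⟩ := rfl
  have hdd : d * d = 1 := by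
    rw [hmul, hone, hd]
    ext
    · exact hww
    · simp only [hw0, hb0]
      decide
  have hdc : ∀ x : Ext N, x * d = d * x := by
    intro x
    rw [hmul, hmul, hd]
    ext
    · exact hwc _
    · simp only [hw0, hb0, hb0']
      ring
  have hsq : ∀ x : Ext N, x * x = 1 ∨ x * x = d := by
    intro x
    rw [hmul, hone, hd]
    by_cases hc : b (μ x.fst) (μ x.fst) = 0
    · left
      ext
      · exact hsq0 _ hc
      · simp only [hc]
        have : ∀ s : ZMod 2, s + s + 0 = 0 := by decide
        exact this _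
    · right
      ext
      · exact hsq1 _ hc
      · simp only
        have : ∀ s t : ZMod 2, t ≠ 0 → s + s + t = 1 := by decide
        exact this _ _ hc
  let Δ : Subgroup (Ext N) :=
    { carrier := {x | x = 1 ∨ x = d}
      one_mem' := Or.inl rfl
      mul_mem' := by
        rintro x y (rfl | rfl) (rfl | rfl)
        · left; exact one_mul _
        · right; exact one_mul _
        · right; exact mul_one _
        · left; exact hdd
      inv_mem' := by
        rintro x (rfl | rfl)
        · left; exact inv_one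
        · right; exact inv_eq_of_mul_eq_one_right hdd }
  have hΔ : ∀ x : Ext N, x ∈ Δ ↔ x = 1 ∨ x = d := fun x => Iff.rfl
  have hΔn : Δ.Normal := by
    constructor
    intro x hx g
    rw [hΔ] at hx ⊢
    rcases hx with rfl | rfl
    · left; rw [mul_one, mul_inv_cancel]
    · right; rw [hdc, mul_inv_cancel_right]
  have hq : ∀ q : Ext N ⧸ Δ, q * q = 1 := by
    intro q
    obtain ⟨x, rfl⟩ := QuotientGroup.mk_surjective q
    rw [← QuotientGroup.mk_mul, QuotientGroup.eq_one_iff, hΔ]
    exact hsq x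
  have hqc : ∀ p q : Ext N ⧸ Δ, p * q = q * p := by
    intro p q
    have h3 : ∀ r : Ext N ⧸ Δ, r⁻¹ = r := fun r => inv_eq_of_mul_eq_one_right (hq r)
    calc p * q = (p * q)⁻¹ := (h3 _).symm
      _ = q⁻¹ * p⁻¹ := mul_inv_rev p q
      _ = q * p := by rw [h3, h3]
  letI : CommGroup (Ext N ⧸ Δ) := { (inferInstance : Group (Ext N ⧸ Δ)) with mul_comm := hqc }
  letI : Module (ZMod 2) (Additive (Ext N ⧸ Δ)) := by
    apply AddCommGroup.zmodModule
    intro q
    rw [two_nsmul]
    exact hq q.toMul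
  let z : Ext N := ⟨1, 1⟩
  have hz : z = ⟨1, 1⟩ := rfl
  have hzΔ : Additive.ofMul (QuotientGroup.mk z : Ext N ⧸ Δ) ≠ 0 := by
    intro h
    have h3 : (QuotientGroup.mk z : Ext N ⧸ Δ) = 1 := h
    rw [QuotientGroup.eq_one_iff, hΔ, hone, hz, hd] at h3
    rcases h3 with h3 | h3
    · have h5 : (1 : ZMod 2) = 0 := congrArg Ext.snd h3
      exact absurd h5 (by decide)
    · exact hw1 (congrArg Ext.fst h3).symm
  obtain ⟨f, hf⟩ : ∃ f : Module.Dual (ZMod 2) (Additive (Ext N ⧸ Δ)),
      f (Additive.ofMul (QuotientGroup.mk z : Ext N ⧸ Δ)) ≠ 0 := by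
    by_contra hcon
    push Not at hcon
    exact hzΔ ((Module.forall_dual_apply_eq_zero_iff (ZMod 2) _).1 hcon)
  have hf1 : f (Additive.ofMul (QuotientGroup.mk z : Ext N ⧸ Δ)) = 1 := by
    have : ∀ s : ZMod 2, s ≠ 0 → s = 1 := by decide
    exact this _ hf
  let φ : Ext N → ZMod 2 := fun x => f (Additive.ofMul (QuotientGroup.mk x : Ext N ⧸ Δ))
  have hφm : ∀ x y : Ext N, φ (x * y) = φ x + φ y := by
    intro x y
    exact map_add f (Additive.ofMul (QuotientGroup.mk x : Ext N ⧸ Δ))
      (Additive.ofMul (QuotientGroup.mk y : Ext N ⧸ Δ))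
  have hφz : φ z = 1 := hf1
  have hφd : φ d = 0 := by
    have h3 : (QuotientGroup.mk d : Ext N ⧸ Δ) = 1 := by
      rw [QuotientGroup.eq_one_iff, hΔ]
      exact Or.inr rfl
    change f (Additive.ofMul (QuotientGroup.mk d : Ext N ⧸ Δ)) = 0
    rw [h3]
    exact map_zero f
  have hφ1 : φ 1 = 0 := by
    have := hφm 1 1
    rw [one_mul] at this
    exact left_eq_add.1 this
  have hφs : ∀ (a : N) (s : ZMod 2), φ ⟨a, s⟩ = φ ⟨a, 0⟩ + s := by
    intro a s
    have h01 : s = 0 ∨ s = 1 := by revert s; decide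
    rcases h01 with rfl | rfl
    · rw [add_zero]
    · have h3 : (⟨a, 1⟩ : Ext N) = ⟨a, 0⟩ * z := by
        rw [hmul, hz]
        ext
        · exact (mul_one _).symm
        · simp only [h1, hb0']
          decide
      rw [h3, hφm, hφz]
  refine ⟨fun a => φ ⟨a, 0⟩, ?_, ?_⟩
  · intro a c
    have h3 : (⟨a, 0⟩ : Ext N) * ⟨c, 0⟩ = ⟨a * c, b (μ a) (μ c)⟩ := by
      rw [hmul]
      ext
      · rfl
      · simp only [add_zero, zero_add]
    have h4 := hφm ⟨a, 0⟩ ⟨c, 0⟩
    rw [h3, hφs] at h4
    have h5 : ∀ s t u : ZMod 2, s + u = t → s = t + u := by decide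
    exact h5 _ _ _ h4
  · have h3 := hφs w 1
    have h4 : φ ⟨w, 1⟩ = 0 := hφd
    rw [h4] at h3
    have h5 : ∀ s : ZMod 2, 0 = s + 1 → s = 1 := by decide
    exact h5 _ h3

end Extension

section Herm

variable {N V F : Type*} [Group N] [Field F] [Fintype F] [AddCommGroup V] [Module F V]
  {h : V → V → F}

/-- The coordinate of the central extension, without the condition on good elements. -/
theorem exists_kappa0 (hF : Fintype.card F = 2 ^ 2) (H : HermSp F V h) (w : N) (hw1 : w ≠ 1)
    (μ : N → V) (hμ : ∀ a b : N, μ (a * b) = μ a + μ b)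
    (hker : ∀ a : N, μ a = 0 ↔ a = 1 ∨ a = w)
    (hsq0 : ∀ a : N, h (μ a) (μ a) = 0 → a * a = 1)
    (hsq1 : ∀ a : N, h (μ a) (μ a) ≠ 0 → a * a = w) :
    ∃ κ : N → F, (∀ a b : N, κ (a * b) = κ a + κ b + h (μ a) (μ b)) ∧
      (∀ a : N, κ a + κ a ^ 2 = h (μ a) (μ a)) ∧ κ w = 1 := by
  obtain ⟨ω, hω⟩ := exists_omega hF
  have h2 := two_eq_zero hF
  haveI : CharP F 2 := CharTwo.of_one_ne_zero_of_two_eq_zero one_ne_zero h2
  let ι : ZMod 2 →+* F := ZMod.castHom (dvd_refl 2) F
  have hι : Function.Injective ι := RingHom.injective ι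
  have hlift : ∀ x : F, x ^ 2 = x → ∃ s : ZMod 2, ι s = x := by
    intro x hx
    have : x * (x - 1) = 0 := by linear_combination hx
    rcases mul_eq_zero.1 this with h3 | h3
    · exact ⟨0, by rw [map_zero, h3]⟩
    · exact ⟨1, by rw [map_one]; linear_combination -h3⟩
  have hιsq : ∀ s : ZMod 2, ι s ^ 2 = ι s := by
    intro s
    rw [← map_pow]
    congr 1
    revert s; decide
  have h4 : ∀ x : F, x ^ 4 = x := Cfsg.Agent.SporadicStructure.UnitTwo.pow_four hF
  have hbex : ∀ u v : V, ∃ s : ZMod 2, ι s = h u v + ω * (h u v + h u v ^ 2) := by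
    intro u v
    apply hlift
    have h5 := h4 (h u v)
    generalize h u v = x at h5 ⊢
    linear_combination (x + x ^ 2) ^ 2 * hω - (ω + 1) * h5 + (-(x * ω) - x - x ^ 3) * h2
  choose b hb using hbex
  have hself : ∀ v : V, h v v ^ 2 = h v v := fun v => (H.swap v v).symm
  have hbs : ∀ v : V, ι (b v v) = h v v := by
    intro v
    rw [hb]
    linear_combination ω * hself v + ω * h v v * h2
  have h0 : ∀ v : V, h 0 v = 0 := by
    intro v
    have := H.smul_left 0 0 v
    rwa [zero_smul, zero_mul] at this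
  obtain ⟨κ, hκ, hκw⟩ := exists_section μ hμ w hw1 hker b
    (by
      intro u u' v
      apply hι
      rw [map_add, hb, hb, hb, H.add_left]
      linear_combination ω * h u v * h u' v * h2)
    (by
      intro u v v'
      apply hι
      rw [map_add, hb, hb, hb, H.add_right hF]
      linear_combination ω * h u v * h u v' * h2)
    (by
      intro a ha
      apply hsq0
      rw [← hbs, ha, map_zero])
    (by
      intro a ha
      apply hsq1
      rw [← hbs]
      intro h3
      apply ha
      apply hι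
      rw [h3, map_zero])
  refine ⟨fun a => ι (κ a) + ω * h (μ a) (μ a), ?_, ?_, ?_⟩
  · intro a c
    simp only
    rw [hκ, map_add, map_add, hb, hμ, H.add_left, H.add_right hF, H.add_right hF,
      H.swap (μ a) (μ c)]
    linear_combination ω * (h (μ a) (μ c) + h (μ a) (μ c) ^ 2) * h2
  · intro a
    simp only
    have h3 := hself (μ a)
    have h5 := hιsq (κ a)
    generalize h (μ a) (μ a) = x at h3 ⊢
    generalize ι (κ a) = y at h5 ⊢
    linear_combination h5 + (y + ω * y * x - x) * h2 + x * hω + ω ^ 2 * h3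
  · simp only
    rw [hκw, (hker w).2 (Or.inr rfl), h0, map_one, mul_zero, add_zero]

/-- **The coordinate of the central extension.** -/
theorem exists_kappa' [Finite V] (hF : Fintype.card F = 2 ^ 2) (H : HermSp F V h) (w : N)
    (hw1 : w ≠ 1)
    (μ : N → V) (hμ : ∀ a b : N, μ (a * b) = μ a + μ b)
    (hker : ∀ a : N, μ a = 0 ↔ a = 1 ∨ a = w)
    (hsq0 : ∀ a : N, h (μ a) (μ a) = 0 → a * a = 1)
    (hsq1 : ∀ a : N, h (μ a) (μ a) ≠ 0 → a * a = w)
    (good : N → Prop) (gi : ∀ a, good a → h (μ a) (μ a) = 0)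
    (ge : ∀ v, h v v = 0 → ∃ a, μ a = v ∧ good a) (gu : ∀ a, good a → ¬ good (a * w))
    (g0 : ∀ a b, good a → good b → h (μ a) (μ b) = 0 → good (a * b))
    (g1 : ∀ a b, good a → good b → h (μ a) (μ b) = 1 → good (a * b * w)) :
    ∃ κ : N → F, (∀ a b : N, κ (a * b) = κ a + κ b + h (μ a) (μ b)) ∧
      (∀ a : N, κ a + κ a ^ 2 = h (μ a) (μ a)) ∧ κ w = 1 ∧ (∀ a : N, κ a = 0 ↔ good a) := by
  obtain ⟨κ, hκ, hκs, hκw⟩ := exists_kappa0 hF H w hw1 μ hμ hker hsq0 hsq1
  have h2 := two_eq_zero hF
  haveI : CharP F 2 := CharTwo.of_one_ne_zero_of_two_eq_zero one_ne_zero h2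
  let ι : ZMod 2 →+* F := ZMod.castHom (dvd_refl 2) F
  have hι : Function.Injective ι := RingHom.injective ι
  have hlift : ∀ x : F, x + x ^ 2 = 0 → ∃ s : ZMod 2, ι s = x := by
    intro x hx
    have : x * (x - 1) = 0 := by linear_combination hx - x * h2
    rcases mul_eq_zero.1 this with h3 | h3
    · exact ⟨0, by rw [map_zero, h3]⟩
    · exact ⟨1, by rw [map_one]; linear_combination -h3⟩
  have hιsq : ∀ s : ZMod 2, ι s ^ 2 = ι s := by
    intro s
    rw [← map_pow]
    congr 1
    revert s; decide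
  have hw0 : μ w = 0 := (hker w).2 (Or.inr rfl)
  have h1 : μ 1 = 0 := (hker 1).2 (Or.inl rfl)
  have hh0 : ∀ v : V, h 0 v = 0 := by
    intro v
    have := H.smul_left 0 0 v
    rwa [zero_smul, zero_mul] at this
  have hh0' : ∀ v : V, h v 0 = 0 := by
    intro v
    rw [H.swap, hh0]; ring
  have hκaw : ∀ a, κ (a * w) = κ a + 1 := by
    intro a
    rw [hκ, hκw, hw0, hh0', add_zero]
  -- two elements with the same image
  have hcoset : ∀ a a' : N, μ a = μ a' → a = a' ∨ a = a' * w := by
    intro a a' he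
    have h3 : μ (a'⁻¹ * a) = 0 := by
      have h4 : μ (a'⁻¹ * a') = 0 := by rw [inv_mul_cancel, h1]
      rw [hμ] at h4 ⊢
      rw [he, h4]
    rcases (hker _).1 h3 with h4 | h4
    · left
      rw [inv_mul_eq_one] at h4
      exact h4.symm
    · right
      rw [← h4]
      group
  have hww : w * w = 1 := hsq0 w (by rw [hw0, hh0])
  have guniq : ∀ a a' : N, good a → good a' → μ a = μ a' → a = a' := by
    intro a a' ha ha' he
    rcases hcoset a a' he with h3 | h3
    · exact h3
    · rw [h3] at ha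
      exact absurd ha (gu a' ha')
  -- the function on isotropic vectors
  classical
  have hex : ∀ v : V, ∃ s : ZMod 2, ∀ a : N, good a → μ a = v → ι s = κ a := by
    intro v
    by_cases hv : h v v = 0
    · obtain ⟨a, ha, hga⟩ := ge v hv
      obtain ⟨s, hs⟩ := hlift (κ a) (by rw [hκs, ha, hv])
      refine ⟨s, ?_⟩
      intro a' hga' ha'
      rw [guniq a' a hga' hga (by rw [ha', ha]), hs]
    · refine ⟨0, ?_⟩
      intro a hga ha
      exact absurd (by rw [← ha]; exact gi a hga) hv
  choose χ hχ using hex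
  have hχadd : ∀ v u : V, h v v = 0 → h u u = 0 → h (v + u) (v + u) = 0 →
      χ (v + u) = χ v + χ u := by
    intro v u hv hu hvu
    obtain ⟨a, ha, hga⟩ := ge v hv
    obtain ⟨c, hc, hgc⟩ := ge u hu
    have h3 : h v u + h v u ^ 2 = 0 := by
      rw [H.add_left, H.add_right hF, H.add_right hF, hv, hu, H.swap v u] at hvu
      linear_combination hvu
    have h4 : h v u = 0 ∨ h v u = 1 := by
      have : h v u * (h v u - 1) = 0 := by linear_combination h3 - h v u * h2
      rcases mul_eq_zero.1 this with h5 | h5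
      · exact Or.inl h5
      · exact Or.inr (by linear_combination h5)
    apply hι
    rw [map_add, hχ v a hga ha, hχ u c hgc hc]
    rcases h4 with h4 | h4
    · have h5 : h (μ a) (μ c) = 0 := by rw [ha, hc, h4]
      have h6 := g0 a c hga hgc h5
      rw [hχ (v + u) (a * c) h6 (by rw [hμ, ha, hc]), hκ, h5, add_zero]
    · have h5 : h (μ a) (μ c) = 1 := by rw [ha, hc, h4]
      have h6 := g1 a c hga hgc h5
      rw [hχ (v + u) (a * c * w) h6 (by rw [hμ, hμ, ha, hc, hw0, add_zero]), hκaw, hκ, h5]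
      linear_combination h2
  obtain ⟨L, hL⟩ := LemmaU.exists_linear hF H (A := ZMod 2) (by decide) hχadd
  refine ⟨fun a => κ a + ι (L (μ a)), ?_, ?_, ?_, ?_⟩
  · intro a c
    simp only
    rw [hκ, hμ, map_add, map_add]
    ring
  · intro a
    simp only
    linear_combination hκs a + hιsq (L (μ a)) + (ι (L (μ a)) + κ a * ι (L (μ a))) * h2
  · simp only
    rw [hκw, hw0, map_zero, map_zero, add_zero]
  · have key : ∀ a : N, good a → κ a + ι (L (μ a)) = 0 := by
      intro a ha
      rw [hL (μ a) (gi a ha), hχ (μ a) a ha rfl]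
      linear_combination κ a * h2
    intro a
    simp only
    constructor
    · intro h3
      have hiso : h (μ a) (μ a) = 0 := by
        rw [← hκs a]
        have h4 : κ a = ι (L (μ a)) := by linear_combination h3 - ι (L (μ a)) * h2
        rw [h4, hιsq]
        linear_combination ι (L (μ a)) * h2
      obtain ⟨a', ha', hga'⟩ := ge (μ a) hiso
      rcases hcoset a a' ha'.symm with h4 | h4
      · rw [h4]; exact hga'
      · exfalso
        have h5 := key a' hga'
        rw [h4, hκaw, hμ, hw0, add_zero] at h3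
        exact one_ne_zero (α := F) (by linear_combination h3 - h5)
    · intro ha
      exact key a ha

/-- The coordinate of the central extension, the form used by the unitary recognition. -/
theorem exists_kappa [Finite N] (hF : Fintype.card F = 4) [FiniteDimensional F V]
    (H : HermSp F V h) (_hdim : 2 ≤ Module.finrank F V) (w : N) (hw1 : w ≠ 1)
    (μ : N → V) (hμ : ∀ a b : N, μ (a * b) = μ a + μ b)
    (hker : ∀ a : N, μ a = 0 ↔ a = 1 ∨ a = w) (_hsurj : Function.Surjective μ)
    (hsq0 : ∀ a : N, h (μ a) (μ a) = 0 → a * a = 1)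
    (hsq1 : ∀ a : N, h (μ a) (μ a) ≠ 0 → a * a = w)
    (good : N → Prop) (gi : ∀ a, good a → h (μ a) (μ a) = 0)
    (ge : ∀ v, h v v = 0 → ∃ a, μ a = v ∧ good a) (gu : ∀ a, good a → ¬ good (a * w))
    (g0 : ∀ a b, good a → good b → h (μ a) (μ b) = 0 → good (a * b))
    (g1 : ∀ a b, good a → good b → h (μ a) (μ b) = 1 → good (a * b * w)) :
    ∃ κ : N → F, (∀ a b : N, κ (a * b) = κ a + κ b + h (μ a) (μ b)) ∧
      (∀ a : N, κ a + κ a ^ 2 = h (μ a) (μ a)) ∧ κ w = 1 ∧ (∀ a : N, κ a = 0 ↔ good a) := by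
  haveI : Finite V := Module.finite_of_finite F
  exact exists_kappa' (by rw [hF]; norm_num) H w hw1 μ hμ hker hsq0 hsq1 good gi ge gu g0 g1

end Herm

end Cfsg.Agent.Fischer920.Kappa
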