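import Mathlib
import Cfsg.Agent.SporadicA.FieldFour
import Cfsg.Agent.Fischer480.Defs

set_option autoImplicit false
set_option maxRecDepth 100000

/-!
# `U(4)` and `R(5)`: the 45 isotropic points over `F_4` and the 45 points `±v`, `(v, v) = 1` over
`F_3`
-/

namespace Cfsg.Agent.Fischer920.IsoU

open Cfsg Cfsg.Agent.SporadicA.FieldFour Cfsg.Agent.Fischer480.Defs

universe u

/-- representatives of the isotropic points -/
def P : Fin 45 → F4 × F4 × F4 × F4 := ![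
  (.z, .z, .o, .o),
  (.z, .z, .o, .w),
  (.z, .z, .o, .v),
  (.z, .o, .z, .o),
  (.z, .o, .z, .w),
  (.z, .o, .z, .v),
  (.z, .o, .o, .z),
  (.z, .o, .w, .z),
  (.z, .o, .v, .z),
  (.o, .z, .z, .o),
  (.o, .z, .z, .w),
  (.o, .z, .z, .v),
  (.o, .z, .o, .z),
  (.o, .z, .w, .z),
  (.o, .z, .v, .z),
  (.o, .o, .z, .z),
  (.o, .o, .o, .o),
  (.o, .o, .o, .w),
  (.o, .o, .o, .v),
  (.o, .o, .w, .o),
  (.o, .o, .w, .w),
  (.o, .o, .w, .v),
  (.o, .o, .v, .o),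
  (.o, .o, .v, .w),
  (.o, .o, .v, .v),
  (.o, .w, .z, .z),
  (.o, .w, .o, .o),
  (.o, .w, .o, .w),
  (.o, .w, .o, .v),
  (.o, .w, .w, .o),
  (.o, .w, .w, .w),
  (.o, .w, .w, .v),
  (.o, .w, .v, .o),
  (.o, .w, .v, .w),
  (.o, .w, .v, .v),
  (.o, .v, .z, .z),
  (.o, .v, .o, .o),
  (.o, .v, .o, .w),
  (.o, .v, .o, .v),
  (.o, .v, .w, .o),
  (.o, .v, .w, .w),
  (.o, .v, .w, .v),
  (.o, .v, .v, .o),
  (.o, .v, .v, .w),
  (.o, .v, .v, .v)]

/-- the corresponding vectors of norm one -/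
def Q : Fin 45 → ZMod 3 × ZMod 3 × ZMod 3 × ZMod 3 × ZMod 3 := ![
  (0, 0, 0, 0, 1),
  (1, 1, 1, 0, 1),
  (1, 1, 1, 0, 2),
  (1, 2, 0, 1, 2),
  (1, 0, 2, 2, 1),
  (0, 1, 2, 1, 2),
  (1, 2, 0, 1, 1),
  (1, 0, 2, 2, 2),
  (0, 1, 2, 1, 1),
  (1, 2, 0, 2, 2),
  (1, 0, 2, 1, 1),
  (0, 1, 2, 2, 2),
  (1, 2, 0, 2, 1),
  (1, 0, 2, 1, 2),
  (0, 1, 2, 2, 1),
  (0, 0, 0, 1, 0),
  (0, 0, 1, 0, 0),
  (1, 2, 2, 0, 1),
  (1, 2, 1, 0, 1),
  (1, 2, 2, 0, 2),
  (0, 1, 0, 0, 0),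
  (1, 1, 2, 0, 2),
  (1, 2, 1, 0, 2),
  (1, 1, 2, 0, 1),
  (1, 0, 0, 0, 0),
  (1, 1, 1, 1, 0),
  (1, 2, 1, 2, 0),
  (1, 1, 0, 1, 1),
  (0, 1, 1, 1, 2),
  (1, 1, 0, 1, 2),
  (1, 2, 2, 1, 0),
  (1, 0, 1, 1, 1),
  (0, 1, 1, 1, 1),
  (1, 0, 1, 1, 2),
  (1, 1, 2, 2, 0),
  (1, 1, 1, 2, 0),
  (1, 2, 2, 2, 0),
  (1, 0, 1, 2, 1),
  (1, 1, 0, 2, 2),
  (1, 0, 1, 2, 2),
  (1, 1, 2, 1, 0),
  (0, 1, 1, 2, 1),
  (1, 1, 0, 2, 1),
  (0, 1, 1, 2, 2),
  (1, 2, 1, 1, 0)]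

/-- the Hermitian form on quadruples -/
def hh (u v : F4 × F4 × F4 × F4) : F4 :=
  u.1 * (v.1 * v.1) + (u.2.1 * (v.2.1 * v.2.1) + (u.2.2.1 * (v.2.2.1 * v.2.2.1) +
    u.2.2.2 * (v.2.2.2 * v.2.2.2)))

/-- the bilinear form on quintuples -/
def bb (u v : ZMod 3 × ZMod 3 × ZMod 3 × ZMod 3 × ZMod 3) : ZMod 3 :=
  u.1 * v.1 + (u.2.1 * v.2.1 + (u.2.2.1 * v.2.2.1 + (u.2.2.2.1 * v.2.2.2.1 +
    u.2.2.2.2 * v.2.2.2.2)))

/-- scalar multiple -/
def sm (c : F4) (u : F4 × F4 × F4 × F4) : F4 × F4 × F4 × F4 :=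
  (c * u.1, c * u.2.1, c * u.2.2.1, c * u.2.2.2)

theorem P_iso : ∀ i, hh (P i) (P i) = 0 := by decide +kernel

theorem P_ne : ∀ i, P i ≠ (0, 0, 0, 0) := by decide +kernel

theorem P_sm : ∀ i j, ∀ c, P i = sm c (P j) → i = j := by decide +kernel

theorem P_all : ∀ a b c d : F4, (a, b, c, d) ≠ ((0, 0, 0, 0) : F4 × F4 × F4 × F4) →
    hh (a, b, c, d) (a, b, c, d) = 0 → ∃ i, ∃ e, (a, b, c, d) = sm e (P i) := by decide +kernel

theorem Q_one : ∀ i, bb (Q i) (Q i) = 1 := by decide +kernel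

theorem Q_inj : ∀ i j, (Q i = Q j ∨ Q i = -Q j) → i = j := by decide +kernel

theorem Q_all : ∀ v : ZMod 3 × ZMod 3 × ZMod 3 × ZMod 3 × ZMod 3, ¬ bb v v = 1 ∨
    ∃ i, v = Q i ∨ v = -Q i := by decide +kernel

theorem key : ∀ i j, hh (P i) (P j) = 0 ↔ i = j ∨ bb (Q i) (Q j) = 0 := by decide +kernel

/-- vectors to quadruples -/
def tup (v : Fin 4 → F4) : F4 × F4 × F4 × F4 := (v 0, v 1, v 2, v 3)

/-- vectors from quadruples -/
def vec (t : F4 × F4 × F4 × F4) : Fin 4 → F4 := ![t.1, t.2.1, t.2.2.1, t.2.2.2]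

theorem vec_tup (v : Fin 4 → F4) : vec (tup v) = v := by
  ext i
  fin_cases i <;> rfl

theorem tup_vec (t : F4 × F4 × F4 × F4) : tup (vec t) = t := rfl

theorem herm_eq (u v : Fin 4 → F4) : hermForm 4 F4 2 u v = hh (tup u) (tup v) := by
  rw [hermForm, Fin.sum_univ_four, hh]
  simp only [tup, pow_two]
  ring

/-- vectors to quintuples -/
def tup5 (v : Fin 5 → ZMod 3) : ZMod 3 × ZMod 3 × ZMod 3 × ZMod 3 × ZMod 3 :=
  (v 0, v 1, v 2, v 3, v 4)

/-- vectors from quintuples -/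
def vec5 (t : ZMod 3 × ZMod 3 × ZMod 3 × ZMod 3 × ZMod 3) : Fin 5 → ZMod 3 :=
  ![t.1, t.2.1, t.2.2.1, t.2.2.2.1, t.2.2.2.2]

theorem vec_tup5 (v : Fin 5 → ZMod 3) : vec5 (tup5 v) = v := by
  ext i
  fin_cases i <;> rfl

theorem vec5_neg (t : ZMod 3 × ZMod 3 × ZMod 3 × ZMod 3 × ZMod 3) : vec5 (-t) = -vec5 t := by
  ext i
  fin_cases i <;> rfl

theorem tup_vec5 (t : ZMod 3 × ZMod 3 × ZMod 3 × ZMod 3 × ZMod 3) : tup5 (vec5 t) = t := rfl

/-- the standard bilinear form -/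
noncomputable def B5 : LinearMap.BilinForm (ZMod 3) (Fin 5 → ZMod 3) :=
  LinearMap.mk₂ (ZMod 3) (fun u v => u ⬝ᵥ v) add_dotProduct smul_dotProduct
    (fun _ _ _ => dotProduct_add _ _ _) (fun _ _ _ => dotProduct_smul _ _ _)

theorem B5_eq (u v : Fin 5 → ZMod 3) : B5 u v = bb (tup5 u) (tup5 v) := by
  show u ⬝ᵥ v = _
  rw [dotProduct, Fin.sum_univ_five, bb]
  simp only [tup5]
  ring

theorem B5_comm (u v : Fin 5 → ZMod 3) : B5 u v = B5 v u := by
  show u ⬝ᵥ v = v ⬝ᵥ u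
  exact dotProduct_comm u v

theorem B5_symm : B5.IsSymm := ⟨fun u v => B5_comm u v⟩

theorem B5_nondegenerate : B5.Nondegenerate := by
  have h : ∀ u : Fin 5 → ZMod 3, (∀ v, B5 u v = 0) → u = 0 := by
    intro u hu
    ext i
    have := hu (Pi.single i 1)
    have h2 : u ⬝ᵥ Pi.single i 1 = 0 := this
    rwa [dotProduct_single, mul_one] at h2
  refine ⟨fun u hu => h u hu, fun u hu => h u (fun v => ?_)⟩
  have : B5 v u = 0 := hu v
  rw [← this]
  exact B5_comm u v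

variable {G : Type u} [Group G]

/-- from the concrete field -/
theorem isR_of_F4 {E : Set G} {f : G → Fin 4 → F4} (hne : ∀ x ∈ E, f x ≠ 0)
    (hiso : ∀ x ∈ E, hermForm 4 F4 2 (f x) (f x) = 0)
    (hcomm : ∀ x ∈ E, ∀ y ∈ E, (Commute x y ↔ hermForm 4 F4 2 (f x) (f y) = 0))
    (hinj : ∀ x ∈ E, ∀ y ∈ E, ∀ c : F4, f x = c • f y → x = y)
    (hsurj : ∀ v : Fin 4 → F4, v ≠ 0 → hermForm 4 F4 2 v v = 0 → ∃ x ∈ E, ∃ c : F4, v = c • f x) :
    IsR 5 E := by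
  have hidx : ∀ x ∈ E, ∃ i : Fin 45, ∃ c : F4, c ≠ 0 ∧ f x = c • vec (P i) := by
    intro x hx
    obtain ⟨i, c, hic⟩ := P_all (f x 0) (f x 1) (f x 2) (f x 3)
      (fun h => hne x hx (by rw [← vec_tup (f x)]; show vec (f x 0, f x 1, f x 2, f x 3) = 0
                             rw [h]; ext i; fin_cases i <;> rfl))
      (by have := hiso x hx; rwa [herm_eq] at this)
    have h1 : f x = c • vec (P i) := by
      rw [← vec_tup (f x)]
      show vec (f x 0, f x 1, f x 2, f x 3) = _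
      rw [hic]
      ext j
      fin_cases j <;> rfl
    refine ⟨i, c, ?_, h1⟩
    rintro rfl
    apply hne x hx
    rw [h1, zero_smul]
  choose! ix c hc hf using hidx
  have hh_smul : ∀ (a b : F4) (u v : Fin 4 → F4),
      hermForm 4 F4 2 (a • u) (b • v) = a * b ^ 2 * hermForm 4 F4 2 u v := by
    intro a b u v
    rw [hermForm, hermForm, Finset.mul_sum]
    refine Finset.sum_congr rfl (fun i _ => ?_)
    simp only [Pi.smul_apply, smul_eq_mul]
    ring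
  have hixinj : ∀ x ∈ E, ∀ y ∈ E, ix x = ix y → x = y := by
    intro x hx y hy hxy
    apply hinj x hx y hy (c x * (c y)⁻¹)
    rw [hf x hx, hf y hy, smul_smul, hxy, mul_assoc, inv_mul_cancel₀ (hc y hy), mul_one]
  refine ⟨B5, fun x => vec5 (Q (ix x)), B5_symm, B5_nondegenerate, ?_, ?_, ?_, ?_⟩
  · intro x _
    rw [B5_eq, tup_vec5]
    exact Q_one _
  · intro x hx y hy
    rw [hcomm x hx y hy, hf x hx, hf y hy, hh_smul, B5_eq, tup_vec5, tup_vec5]
    have h1 : c x * c y ^ 2 ≠ 0 := mul_ne_zero (hc x hx) (pow_ne_zero _ (hc y hy))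
    rw [mul_eq_zero, or_iff_right h1, herm_eq, tup_vec, tup_vec, key]
    constructor
    · rintro (h | h)
      · exact Or.inl (hixinj x hx y hy h)
      · exact Or.inr h
    · rintro (h | h)
      · exact Or.inl (by rw [h])
      · exact Or.inr h
  · intro x hx y hy hxy
    apply hixinj x hx y hy
    apply Q_inj
    rcases hxy with h | h
    · left
      have := congrArg tup5 h
      exact this
    · right
      rw [← vec5_neg] at h
      have := congrArg tup5 h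
      exact this
  · intro v hv
    rcases Q_all (tup5 v) with h | ⟨i, hi⟩
    · exact absurd (by rw [← B5_eq]; exact hv) h
    · obtain ⟨x, hx, e, he⟩ := hsurj (vec (P i))
        (fun h => P_ne i (by rw [← tup_vec (P i), h]; rfl))
        (by rw [herm_eq, tup_vec]; exact P_iso i)
      have h1 : ix x = i := by
        symm
        apply P_sm i (ix x) (e * c x)
        rw [hf x hx, smul_smul] at he
        rw [← tup_vec (P i), he]
        rfl
      refine ⟨x, hx, ?_⟩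
      rw [← vec_tup5 v]
      rcases hi with hi | hi
      · left
        show vec5 (tup5 v) = vec5 (Q (ix x))
        rw [hi, h1]
      · right
        show vec5 (tup5 v) = - vec5 (Q (ix x))
        rw [hi, h1, vec5_neg]

/-- **The piece `isoU`.** -/
theorem isoU (E : Set G) (h : IsU 4 E) : IsR 5 E := by
  obtain ⟨F, iF, iFt, f, hF, hne, hiso, hcomm, hinj, hsurj⟩ := h
  let σ : F ≃+* F4 := FiniteField.ringEquivOfCardEq (hF.trans F4.card_eq.symm)
  have hh : ∀ u v : Fin 4 → F, hermForm 4 F4 2 (fun i => σ (u i)) (fun i => σ (v i)) =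
      σ (hermForm 4 F 2 u v) := by
    intro u v
    rw [hermForm, hermForm, map_sum]
    refine Finset.sum_congr rfl (fun i _ => ?_)
    rw [map_mul, map_pow]
  have h0 : ∀ a : F, σ a = 0 ↔ a = 0 := fun a => by
    rw [← map_zero σ, σ.injective.eq_iff]
  refine isR_of_F4 (f := fun x i => σ (f x i)) ?_ ?_ ?_ ?_ ?_
  · intro x hx h
    apply hne x hx
    ext i
    exact (h0 _).1 (congrFun h i)
  · intro x hx
    rw [hh, hiso x hx, map_zero]
  · intro x hx y hy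
    rw [hh, h0]
    exact hcomm x hx y hy
  · intro x hx y hy c hxy
    apply hinj x hx y hy (σ.symm c)
    ext i
    have h1 : σ (f x i) = c * σ (f y i) := congrFun hxy i
    apply σ.injective
    rw [h1]
    show _ = σ (σ.symm c * f y i)
    rw [map_mul, RingEquiv.apply_symm_apply]
  · intro v hv hvv
    obtain ⟨x, hx, c, hc⟩ := hsurj (fun i => σ.symm (v i))
      (fun h => hv (by
        ext i
        have h1 : σ.symm (v i) = 0 := congrFun h i
        have h2 := congrArg σ h1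
        rwa [RingEquiv.apply_symm_apply, map_zero] at h2))
      (by
        rw [← h0, ← hh]
        simp only [RingEquiv.apply_symm_apply]
        exact hvv)
    refine ⟨x, hx, σ c, ?_⟩
    ext i
    have h1 : σ.symm (v i) = c * f x i := congrFun hc i
    show v i = σ c * σ (f x i)
    rw [← map_mul, ← h1, RingEquiv.apply_symm_apply]

end Cfsg.Agent.Fischer920.IsoU
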