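import Cfsg.Agent.Fischer920.Theta
import Cfsg.Agent.Fischer480.Main

set_option autoImplicit false

/-!
# S0480: the pieces `odd`, `solv`, `two` from the case `Thick`
-/

namespace Cfsg.Agent.Fischer920.Pieces3

open Cfsg Cfsg.Agent.SporadicStructure.FischerSpace Cfsg.Agent.ThreeTransPolar.Basic
open Cfsg.Agent.ThreeTransPolar.Lines
open Cfsg.Agent.Fischer480.Defs
open Cfsg.Agent.Fischer920.LocalStruct
open Cfsg.Agent.Fischer920.Theta

universe u

/-- S1615, strong form -/
theorem isSym_five_of_odd {G : Type u} [Group G] [Finite G] {D : Set G} (F : FGroup D) {x : G}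
    (hx : x ∈ D) (ho : ¬ Cfsg.oddCore ↥(Fischer480.Main.HH D x) ≤
      Subgroup.center ↥(Fischer480.Main.HH D x)) : IsSym 5 D := by
  obtain ⟨a, b, ha, hb, hab, hblk⟩ :=
    Cfsg.Agent.SporadicStructure.FischerOdd.exists_block (inh F).fd ho
  obtain ⟨e⟩ := Cfsg.Agent.SporadicStructure.FischerOdd2.main (inh F).fd F.sol F.perf hx ha hb hab
    hblk
  exact isSym_five (inh F).fd e

/-- the piece `odd` -/
theorem odd {G : Type u} [Group G] [Finite G] {D : Set G} (F : FGroup D) (x : G) (hx : x ∈ D)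
    (ho : ¬ Cfsg.oddCore ↥(Fischer480.Main.HH D x) ≤
      Subgroup.center ↥(Fischer480.Main.HH D x)) : InList D :=
  Or.inl ⟨5, le_rfl, isSym_five_of_odd F hx ho⟩

/-- the piece `two`, from the case `Thick` -/
theorem two_of_thick {G : Type u} [Group G] [Finite G] {D : Set G}
    (hT : Thick D → InList D) (F : FGroup D) (x : G) (hx : x ∈ D)
    (h2 : ¬ Cfsg.pCore 2 ↥(Fischer480.Main.HH D x) ≤
      Subgroup.center ↥(Fischer480.Main.HH D x)) : InList D :=
  hT (Cfsg.Agent.ThreeTransPolar.Main.thick_of_pCore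
    (Fischer160.Inherit.rk_of_FGroup (inh F)) hx h2)

/-- the piece `solv`, from the case `Thick` -/
theorem solv_of_thick {G : Type u} [Group G] [Finite G] {D : Set G}
    (hT : Thick D → InList D) (F : FGroup D) (x : G) (hx : x ∈ D)
    (hs : Group.IsSolvable ↥(Fischer480.Main.HH D x)) : InList D := by
  have R := Fischer160.Inherit.rk_of_FGroup (inh F)
  by_cases ht : Fischer160.Inherit.ThinLines D
  · by_cases ho : Cfsg.oddCore ↥(Fischer480.Main.HH D x) ≤
        Subgroup.center ↥(Fischer480.Main.HH D x)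
    · exact absurd hs (Fischer160.Inherit.not_solvable_of_thinLines (inh F) ht hx ho)
    · exact odd F x hx ho
  · rw [Fischer160.Inherit.ThinLines] at ht
    push Not at ht
    obtain ⟨x', hx', y', hy', hne, hc, z', hz', h3, h4⟩ := ht
    exact hT (Cfsg.Agent.ThreeTransPolar.Main.thick_of_exists R hx' hy' hne hc
      ⟨z', hz', h3, h4⟩)

end Cfsg.Agent.Fischer920.Pieces3
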