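import Cfsg.Agent.Fischer920.Pieces3
import Cfsg.Agent.S0480U.Two

set_option autoImplicit false

/-!
# S0480: the pieces `solv`, `two`
-/

namespace Cfsg.Agent.Fischer920.SolvPiece

open Cfsg Cfsg.Agent.ThreeTransPolar.Basic Cfsg.Agent.ThreeTransPolar.Lines
open Cfsg.Agent.Fischer480.Defs

universe u

theorem inList_of_thick {G : Type u} [Group G] [Finite G] {D : Set G} (T : Thick D) :
    InList D := by
  rcases Cfsg.Agent.S0480U.Two.type_of_polar
    (Cfsg.Agent.ThreeTransPolar.Main.polar_cases T) with h | h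
  · exact Or.inr (Or.inl h)
  · exact Or.inr (Or.inr (Or.inr (Or.inl h)))

/-- the piece `solv` -/
theorem solv {G : Type u} [Group G] [Finite G] {D : Set G} (F : FGroup D) (x : G) (hx : x ∈ D)
    (hs : Group.IsSolvable ↥(Fischer480.Main.HH D x)) : InList D :=
  Pieces3.solv_of_thick inList_of_thick F x hx hs

/-- the piece `two` -/
theorem two {G : Type u} [Group G] [Finite G] {D : Set G} (F : FGroup D) (x : G) (hx : x ∈ D)
    (h2 : ¬ Cfsg.pCore 2 ↥(Fischer480.Main.HH D x) ≤
      Subgroup.center ↥(Fischer480.Main.HH D x)) : InList D :=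
  Pieces3.two_of_thick inList_of_thick F x hx h2

end Cfsg.Agent.Fischer920.SolvPiece
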