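import Cfsg.Agent.Fischer920.Theta
import Cfsg.Agent.Fischer920.RackIso

set_option autoImplicit false

/-!
# Piece (1.3) of S0480: the centre and the order of `⟨C_D(x)⟩`; isomorphic commuting graphs
-/

namespace Cfsg.Agent.Fischer920.Centre

open Cfsg Cfsg.Agent.SporadicStructure.FischerSpace Cfsg.Agent.ThreeTransPolar.Basic
open Cfsg.Agent.ThreeTransPolar.Lines
open Cfsg.Agent.Fischer480.Defs
open Cfsg.Agent.Fischer480.Transport
open Cfsg.Agent.Fischer920.LocalStruct
open Cfsg.Agent.Fischer920.Theta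
open Cfsg.Agent.ThreeTransPolar.Bound (commute_of_mem_closure)

universe u v

section Iso

variable {G₁ : Type u} {G₂ : Type v} [Group G₁] [Group G₂] {D₁ : Set G₁} {D₂ : Set G₂}

theorem commute_iff_of_sq {G : Type*} [Group G] {a b : G} (ha : a * a = 1) :
    Commute a b ↔ a * b * a = b := by
  constructor
  · intro h
    rw [h.eq, mul_assoc, ha, mul_one]
  · intro h
    show a * b = b * a
    calc a * b = a * b * (a * a) := by rw [ha, mul_one]
      _ = (a * b * a) * a := by group
      _ = b * a := by rw [h]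

/-- A commutation preserving bijection from a class satisfying (1.2) is compatible with
conjugation. -/
theorem compat (h₁ : FData D₁) (hθ : ThetaProp D₁) (hsq₂ : ∀ x ∈ D₂, x * x = 1)
    (hc₂ : ∀ g : G₂, ∀ x ∈ D₂, g * x * g⁻¹ ∈ D₂)
    (φ : ↥D₁ ≃ ↥D₂) (hφ : ∀ a b : ↥D₁, Commute (a : G₁) b ↔ Commute (φ a : G₂) (φ b)) :
    ∀ a b : ↥D₁, ((φ ⟨(a : G₁) * b * (a : G₁)⁻¹, h₁.conj a b b.2⟩ : ↥D₂) : G₂)
      = (φ a : G₂) * φ b * (φ a : G₂)⁻¹ := by
  intro a b
  have hinv : ((φ a : ↥D₂) : G₂)⁻¹ = φ a := inv_eq_of_mul_eq_one_left (hsq₂ _ (φ a).2)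
  rw [hinv]
  by_cases hab : Commute (a : G₁) b
  · have h3 : (⟨(a : G₁) * b * (a : G₁)⁻¹, h₁.conj a b b.2⟩ : ↥D₁) = b := by
      apply Subtype.ext
      show (a : G₁) * b * (a : G₁)⁻¹ = b
      rw [hab.eq, mul_inv_cancel_right]
    rw [h3]
    exact ((commute_iff_of_sq (hsq₂ _ (φ a).2)).1 ((hφ a b).1 hab)).symm
  · have hab' : ¬ Commute (φ a : G₂) (φ b) := fun h => hab ((hφ a b).2 h)
    -- the third point in `D₂`
    have hc'm : (φ a : G₂) * φ b * φ a ∈ D₂ := by
      have := hc₂ (φ a) (φ b) (φ b).2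
      rwa [hinv] at this
    let c' : ↥D₂ := ⟨(φ a : G₂) * φ b * φ a, hc'm⟩
    obtain ⟨c, hc⟩ := φ.surjective c'
    have hac' : ¬ Commute (φ a : G₂) ((φ a : G₂) * φ b * φ a) := by
      intro h5
      apply hab'
      have h6 := (commute_iff_of_sq (hsq₂ _ (φ a).2)).1 h5
      rw [commute_iff_of_sq (hsq₂ _ (φ a).2)]
      have h7 := hsq₂ _ (φ a).2
      calc (φ a : G₂) * φ b * φ a = (φ a : G₂) * ((φ a : G₂) * φ b * φ a) * φ a := h6.symm
        _ = ((φ a : G₂) * φ a) * φ b * ((φ a : G₂) * φ a) := by group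
        _ = φ b := by rw [h7, one_mul, mul_one]
    have hac : ¬ Commute (a : G₁) c := by
      intro h5
      have h6 := (hφ a c).1 h5
      rw [hc] at h6
      exact hac' h6
    have h4 : (c : G₁) = b ∨ (c : G₁) = a * b * a := by
      apply hθ a a.2 b b.2 hab c c.2 hac
      intro z hz hza hzb
      have h5 := (hφ ⟨z, hz⟩ a).1 hza
      have h6 := (hφ ⟨z, hz⟩ b).1 hzb
      apply (hφ ⟨z, hz⟩ c).2
      rw [hc]
      exact (h5.mul_right h6).mul_right h5
    have h7 : (c : G₁) = a * b * a := by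
      rcases h4 with h | h
      · exfalso
        apply hab'
        have h8 : c = b := Subtype.ext h
        rw [h8] at hc
        have h9 : (φ b : G₂) = (φ a : G₂) * φ b * φ a := congrArg Subtype.val hc
        exact (commute_iff_of_sq (hsq₂ _ (φ a).2)).2 h9.symm
      · exact h
    have h8 : (⟨(a : G₁) * b * (a : G₁)⁻¹, h₁.conj a b b.2⟩ : ↥D₁) = c := by
      apply Subtype.ext
      show (a : G₁) * b * (a : G₁)⁻¹ = c
      rw [h₁.inv_eq a.2, h7]
    rw [h8, hc]

/-- **Commutation preserving bijections give isomorphisms.** -/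
theorem exists_equiv_quotient (h₁ : FData D₁) (hθ : ThetaProp D₁) (hz : Subgroup.center G₁ = ⊥)
    (hsq₂ : ∀ x ∈ D₂, x * x = 1) (hc₂ : ∀ g : G₂, ∀ x ∈ D₂, g * x * g⁻¹ ∈ D₂)
    (hg₂ : Subgroup.closure D₂ = ⊤)
    (φ : ↥D₁ ≃ ↥D₂) (hφ : ∀ a b : ↥D₁, Commute (a : G₁) b ↔ Commute (φ a : G₂) (φ b)) :
    ∃ e : G₁ ≃* (G₂ ⧸ Subgroup.center G₂),
      ∀ a : ↥D₁, e (a : G₁) = QuotientGroup.mk ((φ a : ↥D₂) : G₂) := by
  obtain ⟨e, he⟩ := RackIso.exists_equiv_quotient h₁.conj hc₂ h₁.gen hg₂ φ
    (compat h₁ hθ hsq₂ hc₂ φ hφ)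
  let E : G₁ ≃* (G₁ ⧸ Subgroup.center G₁) :=
    (QuotientGroup.quotientBot (G := G₁)).symm.trans
      (QuotientGroup.quotientMulEquivOfEq hz.symm)
  refine ⟨E.trans e, ?_⟩
  intro a
  rw [← he a]
  rfl

end Iso

section Group

variable {G : Type u} [Group G] {D : Set G}

theorem center_eq_bot (F : FGroup D) : Subgroup.center G = ⊥ :=
  F.sol _ inferInstance (Group.isSolvable_of_comm (fun a b =>
    Subtype.ext ((Subgroup.mem_center_iff.1 a.2) b).symm))

theorem eq_one_of_commute [Finite G] (F : FGroup D) {g : G} (hg : ∀ d ∈ D, Commute g d) : g = 1 := by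
  have h1 : g ∈ Subgroup.center G := by
    rw [Subgroup.mem_center_iff]
    intro k
    have hk : k ∈ Subgroup.closure D := by rw [F.cls.2.2]; trivial
    exact (commute_of_mem_closure hk (fun s hs => (hg s hs).symm)).eq
  rwa [center_eq_bot F, Subgroup.mem_bot] at h1

/-- `L_x = ⟨C_D(x)⟩` -/
abbrev LL (D : Set G) (x : G) : Subgroup G := Subgroup.closure {d | d ∈ D ∧ Commute d x}

/-- **(1.3)** -/
theorem eq_one_or_eq [Finite G] (F : FGroup D) {x z : G} (hx : x ∈ D)
    (hz : ∀ d ∈ D, Commute d x → Commute z d) : z = 1 ∨ z = x := by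
  have h := (inh F).fd
  have R := Fischer160.Inherit.rk_of_FGroup (inh F)
  obtain ⟨a, ha, hax'⟩ := SporadicStructure.FischerPrimitive.exists_col h F.sol x hx
  have hxa : ¬ Commute x a := fun h1 => hax' h1
  have hzx : Commute z x := hz x hx (Commute.refl x)
  have hzL : ∀ g ∈ LL D x, Commute z g := fun g hg =>
    (commute_of_mem_closure hg (fun s hs => (hz s hs.1 hs.2).symm)).symm
  have hxL : ∀ g ∈ LL D x, Commute x g := fun g hg =>
    (commute_of_mem_closure hg (fun s hs => hs.2)).symm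
  have h1 : cj z a = a ∨ cj z a = cj x a := by
    rw [cj_eq_mul h hx]
    apply eq_or_eq_of_com_eq F hx ha (cj_mem h ha) hxa
    · intro h2
      apply hxa
      have h3 : cj z x = x := cj_of_commute hzx
      rw [← h3, commute_cj] at h2
      exact h2
    · rintro w ⟨hw, hxw, haw⟩
      refine ⟨hw, hxw, ?_⟩
      have h3 : cj z w = w := cj_of_commute (hz w hw hxw.symm)
      rw [← h3, commute_cj]
      exact haw
  rcases h1 with h1 | h1
  · left
    apply eq_one_of_commute F
    intro d hd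
    by_cases hdx : Commute d x
    · exact hz d hd hdx
    · obtain ⟨g, hg, hgd⟩ := Cfsg.Agent.ThreeTransPolar.Bound.M_trans R hx ha hd hxa
        (fun h2 => hdx h2.symm)
      rw [← cj_eq_self_iff, ← hgd, cj_comm_of_commute (hzL g hg), h1]
  · right
    have h2 : x * z = 1 := by
      apply eq_one_of_commute F
      intro d hd
      by_cases hdx : Commute d x
      · exact hdx.symm.mul_left (hz d hd hdx)
      · obtain ⟨g, hg, hgd⟩ := Cfsg.Agent.ThreeTransPolar.Bound.M_trans R hx ha hd hxa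
          (fun h2 => hdx h2.symm)
        have h3 : Commute (x * z) g := (hxL g hg).mul_left (hzL g hg)
        rw [← cj_eq_self_iff, ← hgd, cj_comm_of_commute h3, cj_mul, h1, cj_cj_self h hx]
    have h3 : x⁻¹ = z := inv_eq_of_mul_eq_one_right h2
    rw [← h3, h.inv_eq hx]

theorem card_center [Finite G] (F : FGroup D) {x : G} (hx : x ∈ D) :
    Nat.card (Subgroup.center (LL D x)) = 2 := by
  have h := (inh F).fd
  have hxm : x ∈ LL D x := Subgroup.subset_closure ⟨hx, Commute.refl x⟩
  have hxc : (⟨x, hxm⟩ : LL D x) ∈ Subgroup.center (LL D x) := by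
    rw [Subgroup.mem_center_iff]
    intro g
    apply Subtype.ext
    exact (commute_of_mem_closure g.2 (fun s hs => hs.2)).eq
  rw [Nat.card_eq_two_iff]
  refine ⟨1, ⟨⟨x, hxm⟩, hxc⟩, ?_, ?_⟩
  · intro h1
    apply h.ne_one x hx
    exact (congrArg (fun t : Subgroup.center (LL D x) => ((t : LL D x) : G)) h1).symm
  · apply Set.eq_univ_of_forall
    rintro ⟨⟨z, hz⟩, hzc⟩
    have h1 : z = 1 ∨ z = x := by
      apply eq_one_or_eq F hx
      intro d hd hdx
      have h2 := (Subgroup.mem_center_iff.1 hzc) ⟨d, Subgroup.subset_closure ⟨hd, hdx⟩⟩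
      exact (congrArg Subtype.val h2).symm
    rcases h1 with rfl | rfl
    · left; rfl
    · right; rfl

theorem HH_le_LL {x : G} : Fischer160.Inherit.HH D x ≤ LL D x :=
  Subgroup.closure_mono (fun _ hd => ⟨hd.1, hd.2.2.symm⟩)

/-- `⟨D_x⟩ / Z ≃ L_x / Z` -/
theorem card_quotient_eq {x : G} (hx : x ∈ D) :
    Nonempty (Fischer160.Inherit.KK D x ≃* (LL D x ⧸ Subgroup.center (LL D x))) := by
  let π : Fischer160.Inherit.HH D x →* LL D x ⧸ Subgroup.center (LL D x) :=
    (QuotientGroup.mk' (Subgroup.center (LL D x))).comp (Subgroup.inclusion HH_le_LL)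
  have hxm : x ∈ LL D x := Subgroup.subset_closure ⟨hx, Commute.refl x⟩
  have hker : π.ker = Subgroup.center (Fischer160.Inherit.HH D x) := by
    ext g
    rw [MonoidHom.mem_ker]
    show (QuotientGroup.mk (Subgroup.inclusion HH_le_LL g) : LL D x ⧸ Subgroup.center (LL D x)) = 1
      ↔ _
    rw [QuotientGroup.eq_one_iff, Subgroup.mem_center_iff, Subgroup.mem_center_iff]
    constructor
    · intro h1 k
      apply Subtype.ext
      have h2 := h1 (Subgroup.inclusion HH_le_LL k)
      exact congrArg (fun t : LL D x => (t : G)) h2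
    · intro h1 k
      apply Subtype.ext
      show (k : G) * (g : G) = (g : G) * (k : G)
      refine (commute_of_mem_closure k.2 (fun s hs => ?_)).eq
      by_cases hsx : s = x
      · rw [hsx]
        exact (Fischer160.Inherit.commute_of_mem_HH g.2).symm
      · have h2 := h1 ⟨s, Subgroup.subset_closure ⟨hs.1, hsx, hs.2.symm⟩⟩
        exact congrArg Subtype.val h2
  have hsurj : Function.Surjective π := by
    have hmem : ∀ g : G, ∀ hg : g ∈ LL D x,
        ((⟨g, hg⟩ : LL D x) : LL D x ⧸ Subgroup.center (LL D x)) ∈ π.range := by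
      intro g hg
      induction hg using Subgroup.closure_induction with
      | mem s hs =>
        by_cases hsx : s = x
        · subst hsx
          have h1 : (⟨s, hxm⟩ : LL D s) ∈ Subgroup.center (LL D s) := by
            rw [Subgroup.mem_center_iff]
            intro g
            apply Subtype.ext
            exact (commute_of_mem_closure g.2 (fun s hs => hs.2)).eq
          have h2 := (QuotientGroup.eq_one_iff (⟨s, hxm⟩ : LL D s)).2 h1
          rw [h2]
          exact one_mem _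
        · exact ⟨⟨s, Subgroup.subset_closure ⟨hs.1, hsx, hs.2.symm⟩⟩, rfl⟩
      | one => exact one_mem _
      | mul a b ha hb ih1 ih2 => exact mul_mem ih1 ih2
      | inv a ha ih => exact inv_mem ih
    intro q
    obtain ⟨⟨g, hg⟩, rfl⟩ := QuotientGroup.mk_surjective q
    exact hmem g hg
  exact ⟨(QuotientGroup.quotientMulEquivOfEq hker.symm).trans
    (QuotientGroup.quotientKerEquivOfSurjective π hsurj)⟩

/-- **The order of `⟨C_D(x)⟩`.** -/
theorem card_LL [Finite G] (F : FGroup D) {x : G} (hx : x ∈ D) :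
    Nat.card (LL D x) = 2 * Nat.card (Fischer160.Inherit.KK D x) := by
  obtain ⟨e⟩ := card_quotient_eq (D := D) hx
  rw [Nat.card_congr e.toEquiv, ← card_center F hx, mul_comm]
  exact (Subgroup.card_eq_card_quotient_mul_card_subgroup _)

/-- If `D_x` has the commuting graph of the Fischer group `(K, E)` then `⟨D_x⟩/Z ≃ K`. -/
theorem equiv_KK [Finite G] (F : FGroup D) {x : G} {K : Type v} [Group K] [Finite K] {E : Set K}
    (FE : FGroup E) (hE : CIso (Loc D x) E) : Nonempty (K ≃* Fischer160.Inherit.KK D x) := by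
  have h := (inh F).fd
  have hE' := CIso.symm hE
  obtain ⟨φ, hφ, hc⟩ := hE'
  -- the bijection
  let ψ : ↥E ≃ ↥(Fischer160.Inherit.E D x) :=
    (Set.BijOn.equiv φ hφ).trans
      { toFun := fun a => ⟨⟨a, Subgroup.subset_closure a.2⟩, a.2⟩
        invFun := fun a => ⟨((a : Fischer160.Inherit.HH D x) : G), a.2⟩
        left_inv := fun _ => rfl
        right_inv := fun _ => rfl }
  obtain ⟨e, -⟩ := exists_equiv_quotient (inh FE).fd (theta FE) (center_eq_bot FE)
    (D₂ := Fischer160.Inherit.E D x) (fun a ha => Fischer160.Inherit.sq_E h ha)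
    (fun g a ha => Fischer160.Inherit.cj_mem_E h g ha) (Fischer160.Inherit.closure_E x) ψ
    (fun a b => by
      rw [hc a a.2 b b.2]
      constructor
      · intro h1; exact Subtype.ext h1.eq
      · intro h1; exact congrArg Subtype.val h1.eq)
  exact ⟨e⟩

/-- **The order of `⟨C_D(x)⟩`** when `D_x` has the commuting graph of `(K, E)`. -/
theorem card_LL_of_cIso [Finite G] (F : FGroup D) {x : G} (hx : x ∈ D) {K : Type v} [Group K]
    [Finite K] {E : Set K} (FE : FGroup E) (hE : CIso (Loc D x) E) :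
    Nat.card (LL D x) = 2 * Nat.card K := by
  obtain ⟨e⟩ := equiv_KK F FE hE
  rw [card_LL F hx, Nat.card_congr e.toEquiv]

/-- **Two Fischer groups with isomorphic commuting graphs are isomorphic.** -/
theorem equiv_of_cIso {G : Type u} [Group G] [Finite G] {D : Set G} (F : FGroup D) {K : Type v}
    [Group K] [Finite K] {E : Set K} (FE : FGroup E) (hE : CIso D E) :
    ∃ e : G ≃* K, e '' D = E := by
  obtain ⟨φ, hφ, hc⟩ := hE
  have h := (inh F).fd
  have h2 := (inh FE).fd
  obtain ⟨e, he⟩ := exists_equiv_quotient h (theta F) (center_eq_bot F) h2.sq h2.conj h2.gen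
    (Set.BijOn.equiv φ hφ) (fun a b => hc a a.2 b b.2)
  let E2 : K ≃* (K ⧸ Subgroup.center K) :=
    (QuotientGroup.quotientBot (G := K)).symm.trans
      (QuotientGroup.quotientMulEquivOfEq (center_eq_bot FE).symm)
  refine ⟨e.trans E2.symm, ?_⟩
  have h3 : ∀ a : ↥D, (e.trans E2.symm) (a : G) = φ a := by
    intro a
    show E2.symm (e (a : G)) = φ a
    rw [MulEquiv.symm_apply_eq, he a]
    rfl
  rw [← hφ.image_eq]
  apply Set.image_congr
  intro a ha
  exact h3 ⟨a, ha⟩

end Group

end Cfsg.Agent.Fischer920.Centre
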