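import Cfsg.Agent.Fischer920.WFStruct
import Cfsg.Agent.Fischer480.Transport

set_option autoImplicit false

/-!
# Closed connected sets of 3-transpositions without twins

If `Δ` is such a set, `H = ⟨Δ⟩` and `K = H / Z(H)`, then `K` has no solvable normal subgroups and
the image of `Δ` in `K` is a class of 3-transpositions in bijection with `Δ`.
-/

namespace Cfsg.Agent.Fischer920.Closed

open Cfsg Cfsg.Agent.SporadicStructure.FischerSpace Cfsg.Agent.SporadicStructure.FischerSolv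
open Cfsg.Agent.Lib.Cores Cfsg.Agent.Fischer160.Inherit Cfsg.Agent.Fischer920.WFStruct
open Cfsg.Agent.Fischer480.Defs (CIso Loc Com)
open scoped commutatorElement

set_option linter.style.haveILetI false

universe u

variable {G : Type u} [Group G] {Δ : Set G}

/-- A closed, connected set of 3-transpositions without twins. -/
structure Cl (Δ : Set G) : Prop where
  sq : ∀ x ∈ Δ, x * x = 1
  closed : ∀ x ∈ Δ, ∀ y ∈ Δ, x * y * x ∈ Δ
  braid : ∀ x ∈ Δ, ∀ y ∈ Δ, ¬ Commute x y → x * y * x = y * x * y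
  conn : ∀ x ∈ Δ, ∀ y ∈ Δ, Relation.ReflTransGen (stp Δ) x y
  nonempty : Δ.Nonempty
  exCol : ∀ x ∈ Δ, ∃ y ∈ Δ, ¬ Commute x y
  comTwin : ∀ x ∈ Δ, ∀ y ∈ Δ, Commute x y → (∀ z ∈ Δ, Commute z x ↔ Commute z y) → x = y
  colTwin : ∀ x ∈ Δ, ∀ y ∈ Δ, ¬ Commute x y →
    ¬ (∀ z ∈ Δ, (z ≠ x ∧ Commute z x) ↔ (z ≠ y ∧ Commute z y))

/-- the group generated by `Δ` -/
abbrev H (Δ : Set G) : Subgroup G := Subgroup.closure Δ

/-- `Δ` inside `H` -/
def EH (Δ : Set G) : Set (H Δ) := {a | (a : G) ∈ Δ}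

/-- the quotient by the centre -/
abbrev KQ (Δ : Set G) : Type u := H Δ ⧸ Subgroup.center (H Δ)

/-- the image of `Δ` -/
def EK (Δ : Set G) : Set (KQ Δ) := (QuotientGroup.mk : H Δ → KQ Δ) '' EH Δ

theorem mem_EH {a : H Δ} : a ∈ EH Δ ↔ (a : G) ∈ Δ := Iff.rfl

theorem mem_H {a : G} (ha : a ∈ Δ) : a ∈ H Δ := Subgroup.subset_closure ha

variable (C : Cl Δ)

include C

theorem sq_EH {a : H Δ} (ha : a ∈ EH Δ) : a * a = 1 := Subtype.ext (C.sq _ ha)

theorem inv_EH {a : H Δ} (ha : a ∈ EH Δ) : a⁻¹ = a :=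
  inv_eq_of_mul_eq_one_left (sq_EH C ha)

theorem inv_eq {a : G} (ha : a ∈ Δ) : a⁻¹ = a := inv_eq_of_mul_eq_one_left (C.sq a ha)

theorem conj_mem {g a : G} (hg : g ∈ H Δ) (ha : a ∈ Δ) : g * a * g⁻¹ ∈ Δ := by
  induction hg using Subgroup.closure_induction'' generalizing a with
  | mem x hx =>
    rw [inv_eq C hx]
    exact C.closed x hx a ha
  | inv_mem x hx =>
    rw [inv_inv, inv_eq C hx]
    exact C.closed x hx a ha
  | one => simpa using ha
  | mul x y _ _ hx hy =>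
    have e : x * y * a * (x * y)⁻¹ = x * (y * a * y⁻¹) * x⁻¹ := by group
    rw [e]
    exact hx (hy ha)

theorem conj_mem_EH (g : H Δ) {a : H Δ} (ha : a ∈ EH Δ) : g * a * g⁻¹ ∈ EH Δ :=
  conj_mem C g.2 ha

omit C in
theorem closure_EH : Subgroup.closure (EH Δ) = ⊤ := by
  have h1 : (Subgroup.closure (EH Δ)).map (H Δ).subtype = H Δ := by
    rw [MonoidHom.map_closure]
    congr 1
    ext y
    constructor
    · rintro ⟨a, ha, rfl⟩
      exact ha
    · intro hy
      exact ⟨⟨y, mem_H hy⟩, hy, rfl⟩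
  apply Subgroup.map_injective (H Δ).subtype_injective
  rw [h1, ← MonoidHom.range_eq_map, Subgroup.range_subtype]

theorem cube {a b : G} (ha : a ∈ Δ) (hb : b ∈ Δ) (hc : ¬ Commute a b) : (a * b) ^ 3 = 1 := by
  have hbr := C.braid a ha b hb hc
  calc (a * b) ^ 3 = (a * b * a) * (b * a * b) := by
        simp only [pow_succ, pow_zero, one_mul, mul_assoc]
    _ = (b * a * b) * (b * a * b) := by rw [hbr]
    _ = b * a * (b * b) * a * b := by simp only [mul_assoc]
    _ = b * (a * a) * b := by rw [C.sq b hb, mul_one]; simp only [mul_assoc]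
    _ = 1 := by rw [C.sq a ha, mul_one, C.sq b hb]

theorem square {a b : G} (ha : a ∈ Δ) (hb : b ∈ Δ) (hc : Commute a b) : (a * b) ^ 2 = 1 := by
  rw [hc.mul_pow, pow_two, pow_two, C.sq a ha, C.sq b hb, one_mul]

/-- the key argument about congruent members -/
theorem key_normal {N : Subgroup (H Δ)} (hN : N.Normal) {a c y : H Δ} (ha : a ∈ EH Δ)
    (hc : c ∈ EH Δ) (hy : y ∈ EH Δ) (hac : a * c ∈ N) (hya : ¬ Commute (y : G) a)
    (hyc : Commute (y : G) c) : y * a ∈ N ∧ y * c ∈ N := by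
  have hca : c * a ∈ N := by
    have := N.inv_mem hac
    rwa [mul_inv_rev, inv_EH C ha, inv_EH C hc] at this
  have h3 : (y * a) ^ 3 = 1 := Subtype.ext (cube C hy ha hya)
  have h2 : (y * c) ^ 2 = 1 := Subtype.ext (square C hy hc hyc)
  have e1 : y * a = (y * c) * (c * a) := by
    calc y * a = y * (c * c) * a := by rw [sq_EH C hc, mul_one]
      _ = (y * c) * (c * a) := by group
  have e2 : (y * a) ^ 2 ∈ N := by
    have h4 : (y * a) ^ 2 = (y * c) ^ 2 * (((y * c)⁻¹ * (c * a) * (y * c)) * (c * a)) := by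
      rw [e1]; simp only [pow_two]; group
    rw [h4, h2, one_mul]
    refine mul_mem ?_ hca
    have := hN.conj_mem (c * a) hca (y * c)⁻¹
    rwa [inv_inv] at this
  have e3 : y * a ∈ N := by
    have h5 : y * a = (y * a) ^ 3 * ((y * a) ^ 2)⁻¹ := by group
    rw [h5, h3, one_mul]
    exact N.inv_mem e2
  refine ⟨e3, ?_⟩
  have h6 : y * c = (y * a) * (a * c) := by
    calc y * c = y * (a * a) * c := by rw [sq_EH C ha, mul_one]
      _ = (y * a) * (a * c) := by group
  rw [h6]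
  exact mul_mem e3 hac

omit C in
theorem mul_conj_mem' {N : Subgroup (H Δ)} (hN : N.Normal) {g a : H Δ} (hg : g ∈ N)
    (ha : a * a = 1) : a * (g * a * g⁻¹) ∈ N := by
  have hai : a⁻¹ = a := inv_eq_of_mul_eq_one_left ha
  have e : a * (g * a * g⁻¹) = (a * g * a⁻¹) * g⁻¹ := by rw [hai]; group
  rw [e]
  exact mul_mem (hN.conj_mem g hg a) (N.inv_mem hg)

omit C in
theorem mem_center_of {g : H Δ} (h : ∀ a ∈ EH Δ, g * a * g⁻¹ = a) :
    g ∈ Subgroup.center (H Δ) := by
  rw [Subgroup.mem_center_iff]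
  intro k
  have hk : k ∈ Subgroup.closure (EH Δ) := by rw [closure_EH]; trivial
  have hle : Subgroup.closure (EH Δ) ≤ Subgroup.centralizer {g} := by
    rw [Subgroup.closure_le]
    intro a ha
    rw [SetLike.mem_coe, Subgroup.mem_centralizer_singleton_iff]
    have h1 := h a ha
    calc a * g = (g * a * g⁻¹) * g := by rw [h1]
      _ = g * a := by group
  exact Subgroup.mem_centralizer_singleton_iff.1 (hle hk)

theorem pCore_le [Finite G] : Cfsg.pCore 2 (H Δ) ≤ Subgroup.center (H Δ) := by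
  intro g hg
  have hN : (Cfsg.pCore 2 (H Δ)).Normal := Cfsg.Agent.Lib.Cores.pCore_normal 2
  have hp : IsPGroup 2 (Cfsg.pCore 2 (H Δ)) := pCore_isPGroup 2
  have hcop : ∀ z : H Δ, z ∈ Cfsg.pCore 2 (H Δ) → z ^ 3 = 1 → z = 1 := by
    intro z hz h3
    obtain ⟨k, hk⟩ := hp ⟨z, hz⟩
    have hk' : z ^ 2 ^ k = 1 := congrArg Subtype.val hk
    have h4 : (3 : ℕ).Coprime (2 ^ k) := Nat.Coprime.pow_right k (by norm_num)
    have h5 := Nat.dvd_gcd (orderOf_dvd_of_pow_eq_one h3) (orderOf_dvd_of_pow_eq_one hk')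
    rw [h4] at h5
    exact orderOf_eq_one_iff.1 (Nat.dvd_one.1 h5)
  apply mem_center_of
  intro a ha
  have hc : g * a * g⁻¹ ∈ EH Δ := conj_mem_EH C g ha
  set c := g * a * g⁻¹ with hcdef
  have hac : a * c ∈ Cfsg.pCore 2 (H Δ) := mul_conj_mem' hN hg (sq_EH C ha)
  have hcomm : Commute (a : G) (c : G) := by
    by_contra hnc
    have h3 : (a * c) ^ 3 = 1 := Subtype.ext (cube C ha hc hnc)
    have h4 := hcop _ hac h3
    have h5 : a = c := by
      rw [mul_eq_one_iff_eq_inv, inv_EH C hc] at h4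
      exact h4
    rw [h5] at hnc
    exact hnc (Commute.refl _)
  have key : ∀ a c : H Δ, a ∈ EH Δ → c ∈ EH Δ → a * c ∈ Cfsg.pCore 2 (H Δ) →
      ∀ z ∈ Δ, Commute z (c : G) → Commute z (a : G) := by
    intro a c ha hc hac z hz hzc
    by_contra hza
    have h1 := (key_normal C hN ha hc (y := ⟨z, mem_H hz⟩) hz hac hza hzc).1
    have h3 : ((⟨z, mem_H hz⟩ : H Δ) * a) ^ 3 = 1 := Subtype.ext (cube C hz ha hza)
    have h4 := hcop _ h1 h3
    have h5 : (⟨z, mem_H hz⟩ : H Δ) = a := by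
      rw [mul_eq_one_iff_eq_inv, inv_EH C ha] at h4
      exact h4
    have h6 : z = (a : G) := congrArg Subtype.val h5
    rw [h6] at hza
    exact hza (Commute.refl _)
  have hca : c * a ∈ Cfsg.pCore 2 (H Δ) := by
    have := (Cfsg.pCore 2 (H Δ)).inv_mem hac
    rwa [mul_inv_rev, inv_EH C ha, inv_EH C hc] at this
  have h1 := C.comTwin _ ha _ hc hcomm
    (fun z hz => ⟨key c a hc ha hca z hz, key a c ha hc hac z hz⟩)
  exact (Subtype.ext h1).symm

theorem oddCore_le [Finite G] : Cfsg.oddCore (H Δ) ≤ Subgroup.center (H Δ) := by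
  intro g hg
  have hN : (Cfsg.oddCore (H Δ)).Normal := Cfsg.Agent.Lib.Cores.pPrimeCore_normal 2
  have hcop : ∀ z : H Δ, z ∈ Cfsg.oddCore (H Δ) → z ^ 2 = 1 → z = 1 := by
    intro z hz h2
    have h3 : orderOf z ∣ Nat.card (Cfsg.oddCore (H Δ)) := by
      have : orderOf (⟨z, hz⟩ : Cfsg.oddCore (H Δ)) = orderOf z := by
        rw [← Subgroup.orderOf_coe]
      rw [← this]
      exact orderOf_dvd_natCard _
    have h4 : (Nat.card (Cfsg.oddCore (H Δ))).Coprime 2 := pPrimeCore_coprime 2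
    have h5 := Nat.dvd_gcd h3 (orderOf_dvd_of_pow_eq_one h2)
    rw [h4] at h5
    exact orderOf_eq_one_iff.1 (Nat.dvd_one.1 h5)
  apply mem_center_of
  intro a ha
  have hc : g * a * g⁻¹ ∈ EH Δ := conj_mem_EH C g ha
  set c := g * a * g⁻¹ with hcdef
  have hac : a * c ∈ Cfsg.oddCore (H Δ) := mul_conj_mem' hN hg (sq_EH C ha)
  have hca : c * a ∈ Cfsg.oddCore (H Δ) := by
    have := (Cfsg.oddCore (H Δ)).inv_mem hac
    rwa [mul_inv_rev, inv_EH C ha, inv_EH C hc] at this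
  by_cases hcomm : Commute (a : G) (c : G)
  · have h2 : (a * c) ^ 2 = 1 := Subtype.ext (square C ha hc hcomm)
    have h4 := hcop _ hac h2
    rw [mul_eq_one_iff_eq_inv, inv_EH C hc] at h4
    exact h4.symm
  · exfalso
    have key : ∀ a c : H Δ, a ∈ EH Δ → c ∈ EH Δ → a * c ∈ Cfsg.oddCore (H Δ) →
        ¬ Commute (a : G) c → ∀ z ∈ Δ, (z ≠ a ∧ Commute z (a : G)) → (z ≠ c ∧ Commute z (c : G)) := by
      rintro a c ha hc hac hnc z hz ⟨hza, hzc⟩
      refine ⟨fun h1 => hnc (by rw [← h1]; exact hzc.symm), ?_⟩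
      by_contra hcon
      have hca : c * a ∈ Cfsg.oddCore (H Δ) := by
        have := (Cfsg.oddCore (H Δ)).inv_mem hac
        rwa [mul_inv_rev, inv_EH C ha, inv_EH C hc] at this
      have h1 := (key_normal C hN hc ha (y := ⟨z, mem_H hz⟩) hz hca hcon hzc).2
      have h2 : ((⟨z, mem_H hz⟩ : H Δ) * a) ^ 2 = 1 := Subtype.ext (square C hz ha hzc)
      have h4 := hcop _ h1 h2
      have h5 : (⟨z, mem_H hz⟩ : H Δ) = a := by
        rw [mul_eq_one_iff_eq_inv, inv_EH C ha] at h4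
        exact h4
      exact hza (congrArg Subtype.val h5)
    exact C.colTwin _ ha _ hc hcomm
      (fun z hz => ⟨key a c ha hc hac hcomm z hz, key c a hc ha hca (fun h1 => hcomm h1.symm) z hz⟩)

theorem mk_inj {a b : H Δ} (ha : a ∈ EH Δ) (hb : b ∈ EH Δ)
    (hab : (a : KQ Δ) = (b : KQ Δ)) : a = b := by
  rw [QuotientGroup.eq, inv_EH C ha] at hab
  rw [Subgroup.mem_center_iff] at hab
  apply Subtype.ext
  have hz : ∀ z ∈ Δ, Commute z ((a : G) * b) := fun z hz =>
    congrArg Subtype.val (hab ⟨z, mem_H hz⟩)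
  have hsa := C.sq _ ha
  have hsb := C.sq _ hb
  have h1 : Commute (a : G) (b : G) := by
    have h2 : (a : G) * ((a : G) * b) = ((a : G) * b) * a := hz _ ha
    show (a : G) * b = b * a
    have h3 := congrArg (fun t => (a : G) * t) h2
    simp only [← mul_assoc, hsa, one_mul] at h3
    exact h3
  apply C.comTwin _ ha _ hb h1
  intro z hz'
  have h2 := hz z hz'
  constructor
  · intro h3
    have h4 := h3.mul_right h2
    rwa [← mul_assoc, hsa, one_mul] at h4
  · intro h3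
    have h4 := h2.mul_right h3
    rwa [mul_assoc, hsb, mul_one] at h4

theorem mk_commute {a b : H Δ} (ha : a ∈ EH Δ) (hb : b ∈ EH Δ) :
    Commute (a : KQ Δ) (b : KQ Δ) ↔ Commute (a : G) (b : G) := by
  constructor
  · intro hc
    by_contra hnc
    have h3 : (a * b) ^ 3 = 1 := Subtype.ext (cube C ha hb hnc)
    have h3' : ((a : KQ Δ) * b) ^ 3 = 1 := by
      rw [← QuotientGroup.mk_mul, ← QuotientGroup.mk_pow, h3]; rfl
    have sa : (a : KQ Δ) ^ 2 = 1 := by
      rw [pow_two, ← QuotientGroup.mk_mul, sq_EH C ha]; rfl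
    have sb : (b : KQ Δ) ^ 2 = 1 := by
      rw [pow_two, ← QuotientGroup.mk_mul, sq_EH C hb]; rfl
    have h2' : ((a : KQ Δ) * b) ^ 2 = 1 := by rw [hc.mul_pow, sa, sb, one_mul]
    have h4 : (a : KQ Δ) * b = 1 := by
      calc (a : KQ Δ) * b = ((a : KQ Δ) * b) ^ 3 * (((a : KQ Δ) * b) ^ 2)⁻¹ := by group
        _ = 1 := by rw [h3', h2']; group
    have h5 : (a : KQ Δ) = b := by
      rw [mul_eq_one_iff_eq_inv] at h4
      rw [h4]
      exact inv_eq_of_mul_eq_one_left (by rw [← pow_two]; exact sb)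
    have h6 := mk_inj C ha hb h5
    rw [h6] at hnc
    exact hnc (Commute.refl _)
  · intro hc
    have h1 : a * b = b * a := Subtype.ext hc.eq
    show (a : KQ Δ) * b = b * a
    rw [← QuotientGroup.mk_mul, h1]; rfl

theorem third {a b : G} (ha : a ∈ Δ) (hb : b ∈ Δ) (hc : ¬ Commute a b) :
    (a * b * a) * a * (a * b * a) = b := by
  have hbr := C.braid a ha b hb hc
  calc (a * b * a) * a * (a * b * a) = a * b * (a * a) * (a * b * a) := by simp only [mul_assoc]
    _ = a * (b * a * b) * a := by rw [C.sq a ha, mul_one]; simp only [mul_assoc]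
    _ = a * (a * b * a) * a := by rw [hbr]
    _ = (a * a) * b * (a * a) := by simp only [mul_assoc]
    _ = b := by rw [C.sq a ha, one_mul, mul_one]

theorem single_EH {a b : H Δ} (ha : a ∈ EH Δ) (hb : b ∈ EH Δ) : ∃ g : H Δ, g * a * g⁻¹ = b := by
  have hr := C.conn _ ha _ hb
  have key : ∀ c : G, Relation.ReflTransGen (stp Δ) (a : G) c →
      ∃ g ∈ H Δ, g * (a : G) * g⁻¹ = c := by
    intro c hc
    induction hc with
    | refl => exact ⟨1, one_mem _, by simp⟩
    | @tail b c _ hbc ih =>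
      obtain ⟨g, hg, hgb⟩ := ih
      obtain ⟨hb, hc, hnc⟩ := hbc
      refine ⟨(b * c * b) * g, mul_mem (mul_mem (mul_mem (mem_H hb) (mem_H hc)) (mem_H hb)) hg, ?_⟩
      have h1 := third C hb hc hnc
      have h2 : (b * c * b)⁻¹ = b * c * b := inv_eq C (C.closed b hb c hc)
      calc (b * c * b) * g * (a : G) * ((b * c * b) * g)⁻¹
          = (b * c * b) * (g * (a : G) * g⁻¹) * (b * c * b)⁻¹ := by group
        _ = (b * c * b) * b * (b * c * b) := by rw [hgb, h2]
        _ = c := h1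
  obtain ⟨g, hg, hgb⟩ := key _ hr
  exact ⟨⟨g, hg⟩, Subtype.ext hgb⟩

theorem fdata_EK : FData (EK Δ) := by
  refine ⟨?_, ?_, ?_, ?_, ?_, ?_, ?_⟩
  · rintro _ ⟨a, ha, rfl⟩
    rw [← QuotientGroup.mk_mul, sq_EH C ha]; rfl
  · rintro _ ⟨a, ha, rfl⟩ h1
    obtain ⟨b, hb, hab⟩ := C.exCol _ ha
    apply hab
    rw [← mk_commute C ha (b := ⟨b, mem_H hb⟩) hb, h1]
    exact Commute.one_left _
  · rintro g _ ⟨a, ha, rfl⟩
    obtain ⟨k, rfl⟩ := QuotientGroup.mk_surjective g
    exact ⟨k * a * k⁻¹, conj_mem_EH C k ha, rfl⟩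
  · rintro _ ⟨a, ha, rfl⟩ _ ⟨b, hb, rfl⟩ hab
    have h1 : ¬ Commute (a : G) (b : G) := fun h2 => hab ((mk_commute C ha hb).2 h2)
    have h2 : a * b * a = b * a * b := Subtype.ext (C.braid _ ha _ hb h1)
    rw [← QuotientGroup.mk_mul, ← QuotientGroup.mk_mul, ← QuotientGroup.mk_mul,
      ← QuotientGroup.mk_mul, h2]
  · rintro _ ⟨a, ha, rfl⟩ _ ⟨b, hb, rfl⟩
    obtain ⟨g, rfl⟩ := single_EH C ha hb
    exact ⟨g, rfl⟩
  · have h1 : Subgroup.closure (EK Δ) =
        (Subgroup.closure (EH Δ)).map (QuotientGroup.mk' (Subgroup.center (H Δ))) := by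
      rw [MonoidHom.map_closure]; rfl
    rw [h1, closure_EH, ← MonoidHom.range_eq_map]
    exact MonoidHom.range_eq_top.2 (QuotientGroup.mk'_surjective _)
  · obtain ⟨a, ha⟩ := C.nonempty
    exact ⟨_, ⟨a, mem_H ha⟩, ha, rfl⟩

theorem sol_KQ [Finite G] : ∀ N : Subgroup (KQ Δ), N.Normal → Group.IsSolvable ↥N → N = ⊥ := by
  intro N hN hs
  set q := QuotientGroup.mk' (Subgroup.center (H Δ)) with hq
  have h1 : (N.comap q).Normal := hN.comap q
  have h3 : Group.IsSolvable (N.comap q) := by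
    let f : (N.comap q) →* N := q.subgroupComap N
    haveI : Group.IsSolvable N := hs
    have hk : f.ker ≤
        (Subgroup.inclusion (show Subgroup.center (H Δ) ≤ N.comap q from ?_)).range := ?_
    · haveI : Group.IsSolvable (Subgroup.center (H Δ)) :=
        Group.isSolvable_of_comm (fun a b => Subtype.ext (Subgroup.mem_center_iff.1 b.2 a))
      exact Group.isSolvable_of_ker_le_range _ f hk
    · intro z hz
      rw [Subgroup.mem_comap]
      have : q z = 1 := (QuotientGroup.eq_one_iff z).2 hz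
      rw [this]
      exact N.one_mem
    · intro g hg
      rw [MonoidHom.mem_ker] at hg
      have h4 : q (g : H Δ) = 1 := congrArg Subtype.val hg
      have h5 : (g : H Δ) ∈ Subgroup.center (H Δ) := (QuotientGroup.eq_one_iff _).1 h4
      exact ⟨⟨g, h5⟩, rfl⟩
  have h4 := solvable_normal_le_center (pCore_le C) (oddCore_le C) _ h1 h3
  rw [eq_bot_iff]
  intro y hy
  obtain ⟨g, rfl⟩ := QuotientGroup.mk'_surjective _ y
  have h5 : g ∈ Subgroup.center (H Δ) := h4 hy
  rw [Subgroup.mem_bot]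
  exact (QuotientGroup.eq_one_iff g).2 h5

open Classical in
omit C in
/-- the projection `H → KQ`, as a function on `G`. -/
noncomputable def proj (Δ : Set G) (g : G) : KQ Δ :=
  if h : g ∈ H Δ then ((⟨g, h⟩ : H Δ) : KQ Δ) else 1

omit C in
theorem proj_of {g : G} (hg : g ∈ H Δ) : proj Δ g = ((⟨g, hg⟩ : H Δ) : KQ Δ) := by
  rw [proj, dif_pos hg]

omit C in
theorem proj_mul {g k : G} (hg : g ∈ H Δ) (hk : k ∈ H Δ) :
    proj Δ (g * k) = proj Δ g * proj Δ k := by
  rw [proj_of hg, proj_of hk, proj_of (mul_mem hg hk)]; rfl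

theorem proj_bijOn : Set.BijOn (proj Δ) Δ (EK Δ) := by
  refine ⟨?_, ?_, ?_⟩
  · intro a ha
    rw [proj_of (mem_H ha)]
    exact ⟨_, ha, rfl⟩
  · intro a ha b hb hab
    rw [proj_of (mem_H ha), proj_of (mem_H hb)] at hab
    exact congrArg Subtype.val (mk_inj C (a := ⟨a, mem_H ha⟩) (b := ⟨b, mem_H hb⟩) ha hb hab)
  · rintro _ ⟨a, ha, rfl⟩
    exact ⟨(a : G), ha, proj_of a.2⟩

theorem proj_commute {a b : G} (ha : a ∈ Δ) (hb : b ∈ Δ) :
    Commute a b ↔ Commute (proj Δ a) (proj Δ b) := by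
  rw [proj_of (mem_H ha), proj_of (mem_H hb)]
  exact (mk_commute C (a := ⟨a, mem_H ha⟩) (b := ⟨b, mem_H hb⟩) ha hb).symm

/-- `Δ` has the commuting graph of a class of 3-transpositions of a group without solvable normal
subgroups. -/
theorem cIso_EK : CIso Δ (EK Δ) :=
  ⟨proj Δ, proj_bijOn C, fun _ ha _ hb => proj_commute C ha hb⟩

end Cfsg.Agent.Fischer920.Closed
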