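import Cfsg.Agent.ThreeTransPolar.Bound
import Cfsg.Agent.SporadicStructure.FischerRank3

set_option autoImplicit false

/-!
# Vocabulary for Fischer's theorem (S0480)

* `WF D` : class of 3-transpositions of a finite group without solvable normal subgroups;
* `FG D` : moreover `G'' = G'` (the Fischer hypotheses of S1612-S1616);
* `comm X` : the commuting relation on a set `X` of group elements, as a relation on the subtype;
* `SameType X Y` : isomorphism of commuting graphs;
* `IsFSet X` : the commuting graph of `X` is the one of an F-group;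
* `Dx D x`, `Dxy D x y` : the members commuting with `x` (and `y`).
-/

namespace Cfsg.Agent.Fischer920.FSpace

open Cfsg Cfsg.Agent.SporadicStructure.FischerSpace Cfsg.Agent.ThreeTransPolar.Basic

universe u v w

section Groups

variable {G : Type u} [Group G]

/-- a class of 3-transpositions of a group without nontrivial solvable normal subgroups -/
structure WF (D : Set G) : Prop where
  fd : FData D
  hsol : ∀ N : Subgroup G, N.Normal → Group.IsSolvable ↥N → N = ⊥

/-- the Fischer hypotheses -/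
structure FG (D : Set G) : Prop extends WF D where
  hperf : ⁅commutator G, commutator G⁆ = commutator G

/-- The members of `D` different from `x` commuting with `x`. -/
def Dx (D : Set G) (x : G) : Set G := {y | y ∈ D ∧ y ≠ x ∧ Commute x y}

/-- The members of `D` different from `x, y` commuting with `x` and `y`. -/
def Dxy (D : Set G) (x y : G) : Set G := {z | z ∈ D ∧ (z ≠ x ∧ z ≠ y) ∧ Commute x z ∧ Commute y z}

variable {D : Set G}

theorem mem_Dx {x y : G} : y ∈ Dx D x ↔ y ∈ D ∧ y ≠ x ∧ Commute x y := Iff.rfl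

theorem mem_Dxy {x y z : G} :
    z ∈ Dxy D x y ↔ z ∈ D ∧ (z ≠ x ∧ z ≠ y) ∧ Commute x z ∧ Commute y z := Iff.rfl

theorem Dxy_eq_Dx {x y : G} : Dxy D x y = Dx (Dx D x) y := by
  ext z
  rw [mem_Dxy, mem_Dx, mem_Dx]
  tauto

theorem Dxy_comm {x y : G} : Dxy D x y = Dxy D y x := by
  ext z
  rw [mem_Dxy, mem_Dxy]
  tauto

theorem classOf_fdata (h : FData D) : Cfsg.IsThreeTranspositionClass D := by
  refine ⟨⟨?_, ?_⟩, ?_, h.gen⟩
  · intro d hd
    exact orderOf_eq_prime (by rw [pow_two]; exact h.sq d hd) (h.ne_one d hd)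
  · intro d hd e he
    exact SporadicStructure.FischerSolv.pow_two_or_three h hd he
  · obtain ⟨d, hd⟩ := h.nonempty
    refine ⟨d, hd, ?_⟩
    ext e
    constructor
    · intro he
      exact isConj_iff.2 (h.single d hd e he)
    · intro he
      obtain ⟨g, rfl⟩ := isConj_iff.1 he
      exact h.conj g d hd

theorem FG.one_class [Finite G] (h : FG D) : ∀ x ∈ D,
    ∀ y ∈ {y : G | y ∈ D ∧ y ≠ x ∧ Commute x y}, ∀ y' ∈ {y : G | y ∈ D ∧ y ≠ x ∧ Commute x y},
      ∃ g ∈ Subgroup.closure {y : G | y ∈ D ∧ y ≠ x ∧ Commute x y}, g * y * g⁻¹ = y' :=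
  fun _ hx => SporadicStructure.FischerRank3.perp_single_class h.fd h.hsol h.hperf hx

/-- the rank three facts -/
theorem FG.rk [Finite G] (h : FG D) : Rk D :=
  rk_of_hyps h.hsol h.hperf (classOf_fdata h.fd) h.one_class

theorem WF.center (h : WF D) : Subgroup.center G = ⊥ :=
  SporadicStructure.FischerPrimitive.center_eq_bot h.hsol

theorem WF.center' (h : WF D) {g : G} (hg : ∀ d ∈ D, Commute g d) : g = 1 := by
  have h1 := h.fd.mem_center_of_forall_commute hg
  rw [h.center] at h1
  exact Subgroup.mem_bot.1 h1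

end Groups

section Graphs

/-- the commuting relation on a set -/
def comm {G : Type u} [Group G] (X : Set G) : ↥X → ↥X → Prop := fun a b => Commute (a : G) (b : G)

theorem comm_def {G : Type u} [Group G] (X : Set G) (a b : ↥X) :
    comm X a b ↔ Commute (a : G) (b : G) := Iff.rfl

/-- isomorphic commuting graphs -/
def SameType {G : Type u} [Group G] {H : Type v} [Group H] (X : Set G) (Y : Set H) : Prop :=
  Nonempty (comm X ≃r comm Y)

variable {G : Type u} [Group G] {H : Type v} [Group H] {K : Type w} [Group K]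
  {X : Set G} {Y : Set H} {Z : Set K}

theorem SameType.refl (X : Set G) : SameType X X := ⟨RelIso.refl _⟩

theorem SameType.symm (h : SameType X Y) : SameType Y X := by
  obtain ⟨φ⟩ := h
  exact ⟨φ.symm⟩

theorem SameType.trans (h : SameType X Y) (h' : SameType Y Z) : SameType X Z := by
  obtain ⟨φ⟩ := h
  obtain ⟨ψ⟩ := h'
  exact ⟨φ.trans ψ⟩

theorem SameType.ncard_eq (h : SameType X Y) : X.ncard = Y.ncard := by
  obtain ⟨φ⟩ := h
  exact Set.ncard_congr' φ.toEquiv

theorem SameType.of_eq {X' : Set G} (h : X = X') : SameType X X' := by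
  subst h
  exact SameType.refl X

/-- the isomorphism on the sets of members commuting with corresponding members -/
def resDx (φ : comm X ≃r comm Y) {x : G} (hx : x ∈ X) :
    comm (Dx X x) ≃r comm (Dx Y (φ ⟨x, hx⟩ : ↥Y)) where
  toFun z := ⟨φ ⟨z, z.2.1⟩, (φ ⟨z, z.2.1⟩).2, by
    intro h
    have h1 := φ.injective (Subtype.ext h)
    exact z.2.2.1 (congrArg Subtype.val h1), by
    have := (φ.map_rel_iff (a := ⟨x, hx⟩) (b := ⟨z, z.2.1⟩)).2 z.2.2.2
    exact this⟩
  invFun z := ⟨φ.symm ⟨z, z.2.1⟩, (φ.symm ⟨z, z.2.1⟩).2, by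
    intro h
    have h1 : φ.symm ⟨z, z.2.1⟩ = ⟨x, hx⟩ := Subtype.ext h
    have h2 := congrArg φ h1
    rw [φ.apply_symm_apply] at h2
    exact z.2.2.1 (congrArg Subtype.val h2), by
    have := (φ.map_rel_iff (a := ⟨x, hx⟩) (b := φ.symm ⟨z, z.2.1⟩)).1 (by
      rw [φ.apply_symm_apply]; exact z.2.2.2)
    exact this⟩
  left_inv z := by
    apply Subtype.ext
    simp
  right_inv z := by
    apply Subtype.ext
    simp
  map_rel_iff' := by
    intro a b
    exact φ.map_rel_iff (a := ⟨a, a.2.1⟩) (b := ⟨b, b.2.1⟩)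

theorem resDx_apply (φ : comm X ≃r comm Y) {x : G} (hx : x ∈ X) (z : ↥(Dx X x)) :
    (resDx φ hx z : H) = φ ⟨z, z.2.1⟩ := rfl

/-- conjugation gives an isomorphism of commuting graphs -/
theorem SameType.of_conj (g : G) {X X' : Set G} (h : ∀ z, z ∈ X ↔ cj g z ∈ X') :
    SameType X X' := by
  refine ⟨⟨⟨fun z => ⟨cj g z, (h z).1 z.2⟩, fun z => ⟨cj g⁻¹ z, ?_⟩, ?_, ?_⟩, ?_⟩⟩
  · rw [h, cj_cj_inv]; exact z.2
  · intro z
    exact Subtype.ext (cj_inv_cj g z)
  · intro z
    exact Subtype.ext (cj_cj_inv g z)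
  · intro a b
    exact commute_cj

end Graphs

section FSets

/-- `X` has the commuting graph of an F-group (all in one universe). -/
def IsFSet {G : Type u} [Group G] (X : Set G) : Prop :=
  ∃ (K : Type u) (_ : Group K) (_ : Finite K) (E : Set K), FG E ∧ SameType X E

/-- `X` has the commuting graph of a weak F-group. -/
def IsWFSet {G : Type u} [Group G] (X : Set G) : Prop :=
  ∃ (K : Type u) (_ : Group K) (_ : Finite K) (E : Set K), WF E ∧ SameType X E

variable {G : Type u} [Group G] {H : Type u} [Group H]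

theorem IsFSet.isWFSet {X : Set G} (h : IsFSet X) : IsWFSet X := by
  obtain ⟨K, i1, i2, E, hE, hs⟩ := h
  exact ⟨K, i1, i2, E, hE.toWF, hs⟩

theorem IsFSet.of_sameType {X : Set G} {Y : Set H} (h : IsFSet X) (hs : SameType X Y) :
    IsFSet Y := by
  obtain ⟨K, i1, i2, E, hE, hs'⟩ := h
  exact ⟨K, i1, i2, E, hE, hs.symm.trans hs'⟩

theorem FG.isFSet [Finite G] {D : Set G} (h : FG D) : IsFSet D :=
  ⟨G, inferInstance, inferInstance, D, h, SameType.refl D⟩

end FSets

end Cfsg.Agent.Fischer920.FSpace
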