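import Cfsg.Agent.Fischer920.PsuEnd

set_option autoImplicit false

/-!
# Functions on the isotropic vectors of a Hermitian space over the field with four elements

A function on the isotropic vectors (with values in an abelian group of exponent two) which is
additive on triples `v, w, v + w` of isotropic vectors is the restriction of an additive function.
-/

namespace Cfsg.Agent.Fischer920.LemmaU

open Cfsg Cfsg.Agent.SporadicStructure.UnitTwo
open Cfsg.Agent.LieClassical.HermBasic Cfsg.Agent.Fischer920.PsuEnd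

variable {F : Type*} [Field F] [Fintype F] {n : ℕ} {A : Type*} [AddCommGroup A]

theorem eq_of_add_eq {x y z : A} (hA : ∀ a : A, a + a = 0) (h : x + y = z) : x = z + y := by
  rw [← h, add_assoc, hA, add_zero]

theorem nonzero_cases (hF : Fintype.card F = 2 ^ 2) {ω : F} (hω : ω ^ 2 + ω + 1 = 0) {a : F}
    (ha : a ≠ 0) : a = 1 ∨ a = ω ∨ a = ω + 1 := by
  have h3 := Cfsg.Agent.SporadicStructure.UnitTwo.pow_three hF ha
  have h2 := two_eq_zero hF
  have : (a - 1) * ((a - ω) * (a - (ω + 1))) = 0 := by
    linear_combination h3 + (a - 1) * hω - (a - 1) * ((ω + 1) * a + 1) * h2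
  rcases mul_eq_zero.1 this with h | h
  · left; linear_combination h
  · rcases mul_eq_zero.1 h with h | h
    · right; left; linear_combination h
    · right; right; linear_combination h

omit [Fintype F] in
theorem omega_ne_zero {ω : F} (hω : ω ^ 2 + ω + 1 = 0) : ω ≠ 0 := by
  rintro rfl
  simp at hω

omit [Fintype F] in
theorem omega_add_one_ne_zero {ω : F} (hω : ω ^ 2 + ω + 1 = 0) : ω + 1 ≠ 0 := by
  intro h
  have : (1 : F) = 0 := by linear_combination hω - ω * h
  exact one_ne_zero this

theorem cube_eq_one (hF : Fintype.card F = 2 ^ 2) {a : F} (ha : a ≠ 0) : a * a ^ 2 = 1 := by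
  linear_combination Cfsg.Agent.SporadicStructure.UnitTwo.pow_three hF ha

theorem herm_pair (hF : Fintype.card F = 2 ^ 2) {i j : Fin n} (hij : i ≠ j) {a b : F}
    (ha : a ≠ 0) (hb : b ≠ 0) :
    hermForm n F 2 (Pi.single i a + Pi.single j b) (Pi.single i a + Pi.single j b) = 0 := by
  rw [herm_add_left, herm_add_right hF, herm_add_right hF, herm_single_right hF,
    herm_single_right hF, herm_single_right hF, herm_single_right hF]
  rw [Pi.single_eq_same, Pi.single_eq_same, Pi.single_eq_of_ne hij,
    Pi.single_eq_of_ne hij.symm]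
  have h1 := cube_eq_one hF ha
  have h2 := cube_eq_one hF hb
  have h3 := two_eq_zero hF
  linear_combination h1 + h2 + h3

/-- the hypothesis on `χ` -/
def AddIso (χ : (Fin n → F) → A) : Prop :=
  ∀ v w : Fin n → F, hermForm n F 2 v v = 0 → hermForm n F 2 w w = 0 →
    hermForm n F 2 (v + w) (v + w) = 0 → χ (v + w) = χ v + χ w

/-- the values on vectors supported at two places -/
def cc (χ : (Fin n → F) → A) (i j : Fin n) (a b : F) : A := χ (Pi.single i a + Pi.single j b)

omit [Fintype F] [AddCommGroup A] in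
theorem cc_def (χ : (Fin n → F) → A) (i j : Fin n) (a b : F) :
    cc χ i j a b = χ (Pi.single i a + Pi.single j b) := rfl

omit [Fintype F] [AddCommGroup A] in
theorem cc_symm (χ : (Fin n → F) → A) (i j : Fin n) (a b : F) : cc χ i j a b = cc χ j i b a := by
  rw [cc_def, cc_def, add_comm]

theorem cc_add (hF : Fintype.card F = 2 ^ 2) {χ : (Fin n → F) → A} (hχ : AddIso χ)
    {i j : Fin n} (hij : i ≠ j) {a b a' b' : F} (ha : a ≠ 0) (hb : b ≠ 0) (ha' : a' ≠ 0)
    (hb' : b' ≠ 0) (haa : a + a' ≠ 0) (hbb : b + b' ≠ 0) :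
    cc χ i j (a + a') (b + b') = cc χ i j a b + cc χ i j a' b' := by
  have e : (Pi.single i a + Pi.single j b : Fin n → F) + (Pi.single i a' + Pi.single j b') =
      Pi.single i (a + a') + Pi.single j (b + b') := by
    rw [Pi.single_add, Pi.single_add]; abel
  rw [cc_def, ← e]
  apply hχ _ _ (herm_pair hF hij ha hb) (herm_pair hF hij ha' hb')
  rw [e]
  exact herm_pair hF hij haa hbb

theorem cc_tri (hF : Fintype.card F = 2 ^ 2) {χ : (Fin n → F) → A} (hχ : AddIso χ)
    {i j k : Fin n} (hij : i ≠ j) (hik : i ≠ k) (hjk : j ≠ k) {a b c : F} (ha : a ≠ 0)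
    (hb : b ≠ 0) (hc : c ≠ 0) : cc χ i k a c = cc χ i j a b + cc χ j k b c := by
  have e : (Pi.single i a + Pi.single j b : Fin n → F) + (Pi.single j b + Pi.single k c) =
      Pi.single i a + Pi.single k c := by
    have h2 : (Pi.single j b + Pi.single j b : Fin n → F) = 0 := by
      rw [← Pi.single_add, add_self hF, Pi.single_zero]
    calc (Pi.single i a + Pi.single j b : Fin n → F) + (Pi.single j b + Pi.single k c)
        = Pi.single i a + (Pi.single j b + Pi.single j b) + Pi.single k c := by abel
      _ = Pi.single i a + Pi.single k c := by rw [h2, add_zero]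
  rw [cc_def, ← e]
  apply hχ _ _ (herm_pair hF hij ha hb) (herm_pair hF hjk hb hc)
  rw [e]
  exact herm_pair hF hik ha hc

/-- sum of the `cc χ i j a b` over nonzero `a` -/
def S (χ : (Fin n → F) → A) (ω : F) (i j : Fin n) (b : F) : A :=
  cc χ i j 1 b + cc χ i j ω b + cc χ i j (ω + 1) b

omit [Fintype F] in
theorem S_def (χ : (Fin n → F) → A) (ω : F) (i j : Fin n) (b : F) :
    S χ ω i j b = cc χ i j 1 b + cc χ i j ω b + cc χ i j (ω + 1) b := rfl

/-- sum over the diagonal is zero -/
theorem diag_sum (hF : Fintype.card F = 2 ^ 2) (hA : ∀ a : A, a + a = 0)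
    {ω : F} (hω : ω ^ 2 + ω + 1 = 0) {χ : (Fin n → F) → A} (hχ : AddIso χ)
    {i j : Fin n} (hij : i ≠ j) :
    cc χ i j 1 1 + cc χ i j ω ω + cc χ i j (ω + 1) (ω + 1) = 0 := by
  have h0 := omega_ne_zero hω
  have h1 := omega_add_one_ne_zero hω
  rw [cc_add hF hχ hij h0 h0 one_ne_zero one_ne_zero h1 h1]
  have e : ∀ x y : A, x + y + (y + x) = (x + x) + (y + y) := by intro x y; abel
  rw [e, hA, hA, add_zero]

theorem S_indep (hF : Fintype.card F = 2 ^ 2) (hA : ∀ a : A, a + a = 0)
    {ω : F} (hω : ω ^ 2 + ω + 1 = 0) {χ : (Fin n → F) → A} (hχ : AddIso χ)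
    {i j k : Fin n} (hij : i ≠ j) (hkj : k ≠ j) {b : F} (hb : b ≠ 0) :
    S χ ω i j b = S χ ω k j b := by
  by_cases hik : i = k
  · rw [hik]
  have h0 := omega_ne_zero hω
  have h1 := omega_add_one_ne_zero hω
  have key : ∀ a : F, a ≠ 0 → cc χ i j a b = cc χ i k a a + cc χ k j a b := by
    intro a ha
    exact cc_tri hF hχ hik hij hkj ha ha hb
  rw [S_def, S_def, key 1 one_ne_zero, key ω h0, key (ω + 1) h1]
  have h2 := diag_sum hF hA hω hχ hik
  calc cc χ i k 1 1 + cc χ k j 1 b + (cc χ i k ω ω + cc χ k j ω b)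
        + (cc χ i k (ω + 1) (ω + 1) + cc χ k j (ω + 1) b)
      = (cc χ i k 1 1 + cc χ i k ω ω + cc χ i k (ω + 1) (ω + 1))
        + (cc χ k j 1 b + cc χ k j ω b + cc χ k j (ω + 1) b) := by abel
    _ = _ := by rw [h2, zero_add]

theorem S_perm (hF : Fintype.card F = 2 ^ 2) {ω : F} (hω : ω ^ 2 + ω + 1 = 0)
    (χ : (Fin n → F) → A) (i j : Fin n) (b : F) {a : F} (ha : a ≠ 0) :
    S χ ω i j b = cc χ i j a b + cc χ i j (ω * a) b + cc χ i j ((ω + 1) * a) b := by
  have h2 := two_eq_zero hF
  have e1 : ω * ω = ω + 1 := by linear_combination hω - (ω + 1) * h2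
  have e2 : (ω + 1) * ω = 1 := by linear_combination hω - h2
  have e3 : ω * (ω + 1) = 1 := by linear_combination hω - h2
  have e4 : (ω + 1) * (ω + 1) = ω := by linear_combination hω
  rcases nonzero_cases hF hω ha with rfl | rfl | rfl
  · rw [mul_one, mul_one, S_def]
  · rw [e1, e2, S_def]; abel
  · rw [e3, e4, S_def]; abel

theorem S_add (hF : Fintype.card F = 2 ^ 2)
    {ω : F} (hω : ω ^ 2 + ω + 1 = 0) {χ : (Fin n → F) → A} (hχ : AddIso χ)
    {i j : Fin n} (hij : i ≠ j) {b b' : F} (hb : b ≠ 0) (hb' : b' ≠ 0) (hbb : b + b' ≠ 0) :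
    S χ ω i j (b + b') = S χ ω i j b + S χ ω i j b' := by
  have h0 := omega_ne_zero hω
  have h1 := omega_add_one_ne_zero hω
  have h2 := two_eq_zero hF
  -- 1 = ω + (ω + 1), ω = 1 + (ω + 1), ω + 1 = ω + 1
  have e1 : (1 : F) = ω + (ω + 1) := by linear_combination -ω * h2
  have e2 : ω = (ω + 1) + 1 := by linear_combination -h2
  have e3 : ω + 1 = 1 + ω := by ring
  have k1 : cc χ i j 1 (b + b') = cc χ i j ω b + cc χ i j (ω + 1) b' := by
    have := cc_add hF hχ hij h0 hb h1 hb' (by rw [← e1]; exact one_ne_zero) hbb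
    rwa [← e1] at this
  have k2 : cc χ i j ω (b + b') = cc χ i j (ω + 1) b + cc χ i j 1 b' := by
    have := cc_add hF hχ hij h1 hb one_ne_zero hb' (by rw [← e2]; exact h0) hbb
    rwa [← e2] at this
  have k3 : cc χ i j (ω + 1) (b + b') = cc χ i j 1 b + cc χ i j ω b' := by
    have := cc_add hF hχ hij one_ne_zero hb h0 hb' (by rw [← e3]; exact h1) hbb
    rwa [← e3] at this
  rw [S_def, S_def, S_def, k1, k2, k3]
  abel

/-- `cc` is the sum of the two `S`. -/
theorem cc_eq (hF : Fintype.card F = 2 ^ 2) (hA : ∀ a : A, a + a = 0)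
    {ω : F} (hω : ω ^ 2 + ω + 1 = 0) {χ : (Fin n → F) → A} (hχ : AddIso χ)
    {i j : Fin n} (hij : i ≠ j) {a b : F} (ha : a ≠ 0) (hb : b ≠ 0) :
    cc χ i j a b = S χ ω i j b + S χ ω j i a := by
  have h0 := omega_ne_zero hω
  have h1 := omega_add_one_ne_zero hω
  have h2 := two_eq_zero hF
  rw [S_perm hF hω χ i j b ha, S_perm hF hω χ j i a hb]
  rw [cc_symm χ j i b a, cc_symm χ j i (ω * b) a, cc_symm χ j i ((ω + 1) * b) a]
  -- c(ωa, b) + c(a, ωb) = c((ω+1)a, (ω+1)b)
  have e1 : ω * a + a = (ω + 1) * a := by ring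
  have e2 : b + ω * b = (ω + 1) * b := by ring
  have e3 : (ω + 1) * a + a = ω * a := by linear_combination a * h2
  have e4 : b + (ω + 1) * b = ω * b := by linear_combination b * h2
  have e5 : ω * a + (ω + 1) * a = a := by linear_combination ω * a * h2
  have e6 : ω * b + (ω + 1) * b = b := by linear_combination ω * b * h2
  have g0 := mul_ne_zero h0 ha
  have g1 := mul_ne_zero h1 ha
  have f0 := mul_ne_zero h0 hb
  have f1 := mul_ne_zero h1 hb
  have k1 : cc χ i j ((ω + 1) * a) ((ω + 1) * b) = cc χ i j (ω * a) b + cc χ i j a (ω * b) := by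
    have := cc_add hF hχ hij g0 hb ha f0 (by rw [e1]; exact g1) (by rw [e2]; exact f1)
    rwa [e1, e2] at this
  have k2 : cc χ i j (ω * a) (ω * b) = cc χ i j ((ω + 1) * a) b + cc χ i j a ((ω + 1) * b) := by
    have := cc_add hF hχ hij g1 hb ha f1 (by rw [e3]; exact g0) (by rw [e4]; exact f0)
    rwa [e3, e4] at this
  have k3 : cc χ i j a b = cc χ i j (ω * a) (ω * b) + cc χ i j ((ω + 1) * a) ((ω + 1) * b) := by
    have := cc_add hF hχ hij g0 f0 g1 f1 (by rw [e5]; exact ha) (by rw [e6]; exact hb)
    rwa [e5, e6] at this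
  calc cc χ i j a b = cc χ i j (ω * a) (ω * b) + cc χ i j ((ω + 1) * a) ((ω + 1) * b) := k3
    _ = (cc χ i j ((ω + 1) * a) b + cc χ i j a ((ω + 1) * b))
        + (cc χ i j (ω * a) b + cc χ i j a (ω * b)) := by rw [k1, k2]
    _ = (cc χ i j a b + cc χ i j a b) + ((cc χ i j ((ω + 1) * a) b + cc χ i j a ((ω + 1) * b))
        + (cc χ i j (ω * a) b + cc χ i j a (ω * b))) := by rw [hA, zero_add]
    _ = _ := by abel

/-- coordinate functions of the linear extension -/
noncomputable def X (χ : (Fin n → F) → A) (ω : F) (oth : Fin n → Fin n) (j : Fin n) (b : F) : A :=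
  open Classical in if b = 0 then 0 else S χ ω (oth j) j b

omit [Fintype F] in
theorem X_zero (χ : (Fin n → F) → A) (ω : F) (oth : Fin n → Fin n) (j : Fin n) :
    X χ ω oth j 0 = 0 := by
  rw [X, if_pos rfl]

omit [Fintype F] in
theorem X_ne (χ : (Fin n → F) → A) (ω : F) (oth : Fin n → Fin n) (j : Fin n) {b : F}
    (hb : b ≠ 0) : X χ ω oth j b = S χ ω (oth j) j b := by
  rw [X, if_neg hb]

theorem X_add (hF : Fintype.card F = 2 ^ 2) (hA : ∀ a : A, a + a = 0)
    {ω : F} (hω : ω ^ 2 + ω + 1 = 0) {χ : (Fin n → F) → A} (hχ : AddIso χ)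
    {oth : Fin n → Fin n} (ho : ∀ j, oth j ≠ j) (j : Fin n) (b b' : F) :
    X χ ω oth j (b + b') = X χ ω oth j b + X χ ω oth j b' := by
  by_cases hb : b = 0
  · rw [hb, X_zero, zero_add, zero_add]
  by_cases hb' : b' = 0
  · rw [hb', X_zero, add_zero, add_zero]
  by_cases hbb : b + b' = 0
  · have : b' = b := by linear_combination hbb - b * two_eq_zero hF
    rw [hbb, X_zero, this, hA]
  · rw [X_ne _ _ _ _ hb, X_ne _ _ _ _ hb', X_ne _ _ _ _ hbb]
    exact S_add hF hω hχ (ho j) hb hb' hbb

omit [Fintype F] in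
theorem chi_zero {χ : (Fin n → F) → A} (hχ : AddIso χ) :
    χ 0 = 0 := by
  have h0 : hermForm n F 2 (0 : Fin n → F) 0 = 0 := herm_zero_left 0
  have h1 := hχ 0 0 h0 h0 (by rw [add_zero]; exact h0)
  rw [add_zero] at h1
  exact left_eq_add.1 h1

/-- **Lemma U**, standard form. -/
theorem exists_linear_std (hF : Fintype.card F = 2 ^ 2) (hA : ∀ a : A, a + a = 0)
    {χ : (Fin n → F) → A} (hχ : AddIso χ) :
    ∃ L : (Fin n → F) →+ A, ∀ v : Fin n → F, hermForm n F 2 v v = 0 → L v = χ v := by
  classical
  obtain ⟨ω, hω⟩ := exists_omega hF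
  by_cases hn : ∃ i j : Fin n, i ≠ j
  · have hnt : Nontrivial (Fin n) := ⟨hn⟩
    choose oth ho using fun j : Fin n => exists_ne j
    let L : (Fin n → F) →+ A :=
      { toFun := fun v => ∑ j, X χ ω oth j (v j)
        map_zero' := by
          apply Finset.sum_eq_zero
          intro j _
          rw [Pi.zero_apply, X_zero]
        map_add' := by
          intro v w
          rw [← Finset.sum_add_distrib]
          refine Finset.sum_congr rfl fun j _ => ?_
          rw [Pi.add_apply, X_add hF hA hω hχ ho] }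
    have hL : ∀ v, L v = ∑ j, X χ ω oth j (v j) := fun v => rfl
    have hLs : ∀ (i : Fin n) (a : F), L (Pi.single i a) = X χ ω oth i a := by
      intro i a
      rw [hL, Finset.sum_eq_single i]
      · rw [Pi.single_eq_same]
      · intro j _ hj
        rw [Pi.single_eq_of_ne hj, X_zero]
      · intro h
        exact absurd (Finset.mem_univ i) h
    have hpair : ∀ (i j : Fin n) (a b : F), i ≠ j → a ≠ 0 → b ≠ 0 →
        L (Pi.single i a + Pi.single j b) = χ (Pi.single i a + Pi.single j b) := by
      intro i j a b hij ha hb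
      rw [map_add, hLs, hLs, ← cc_def χ i j a b, cc_eq hF hA hω hχ hij ha hb, X_ne _ _ _ _ ha,
        X_ne _ _ _ _ hb, S_indep hF hA hω hχ (ho i) hij.symm ha,
        S_indep hF hA hω hχ (ho j) hij hb, add_comm]
    refine ⟨L, ?_⟩
    have key : ∀ (k : ℕ) (v : Fin n → F), hermForm n F 2 v v = 0 →
        (Finset.univ.filter fun i => v i ≠ 0).card = k → L v = χ v := by
      intro k
      induction k using Nat.strong_induction_on with
      | _ k ih =>
        intro v hv hk
        by_cases hv0 : v = 0
        · rw [hv0, map_zero, chi_zero hχ]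
        obtain ⟨i, hi⟩ : ∃ i, v i ≠ 0 := by
          by_contra hcon
          push Not at hcon
          exact hv0 (funext hcon)
        have hex : ∃ j, j ≠ i ∧ v j ≠ 0 := by
          by_contra hcon
          push Not at hcon
          rw [herm_self_eq hF, Finset.sum_eq_single i] at hv
          · exact hi (pow_eq_zero_iff three_ne_zero |>.1 hv)
          · intro j _ hj
            rw [hcon j hj]; ring
          · intro h
            exact absurd (Finset.mem_univ i) h
        obtain ⟨j, hji, hj⟩ := hex
        set u : Fin n → F := Pi.single i (v i) + Pi.single j (v j) with hu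
        have huu : hermForm n F 2 u u = 0 := herm_pair hF hji.symm hi hj
        have hvu : hermForm n F 2 v u = 0 := by
          rw [hu, herm_add_right hF, herm_single_right hF, herm_single_right hF]
          linear_combination cube_eq_one hF hi + cube_eq_one hF hj + two_eq_zero hF
        have huv : hermForm n F 2 u v = 0 := herm_eq_zero_swap hF hvu
        have hw : hermForm n F 2 (v + u) (v + u) = 0 := by
          rw [herm_add_left, herm_add_right hF v v u, herm_add_right hF u v u, hv, hvu, huv, huu]
          simp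
        have hvw : v = (v + u) + u := by
          funext x
          rw [Pi.add_apply, Pi.add_apply]
          linear_combination -(u x) * two_eq_zero hF
        have hui : u i = v i := by
          rw [hu, Pi.add_apply, Pi.single_eq_same, Pi.single_eq_of_ne hji.symm, add_zero]
        have huj : u j = v j := by
          rw [hu, Pi.add_apply, Pi.single_eq_same, Pi.single_eq_of_ne hji, zero_add]
        have huo : ∀ x, x ≠ i → x ≠ j → u x = 0 := by
          intro x hx hx'
          rw [hu, Pi.add_apply, Pi.single_eq_of_ne hx, Pi.single_eq_of_ne hx', zero_add]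
        have hlt : (Finset.univ.filter fun x => (v + u) x ≠ 0).card < k := by
          rw [← hk]
          apply Finset.card_lt_card
          rw [Finset.ssubset_iff_of_subset]
          · refine ⟨i, by rw [Finset.mem_filter]; exact ⟨Finset.mem_univ i, hi⟩, ?_⟩
            rw [Finset.mem_filter]
            rintro ⟨_, h⟩
            apply h
            rw [Pi.add_apply, hui, add_self hF]
          · intro x hx
            rw [Finset.mem_filter] at hx ⊢
            refine ⟨Finset.mem_univ x, ?_⟩
            intro h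
            apply hx.2
            by_cases hxi : x = i
            · rw [hxi, Pi.add_apply, hui, add_self hF]
            by_cases hxj : x = j
            · rw [hxj, Pi.add_apply, huj, add_self hF]
            rw [Pi.add_apply, h, huo x hxi hxj, add_zero]
        have h1 : L (v + u) = χ (v + u) := ih _ hlt (v + u) hw rfl
        have h2 : L u = χ u := hpair i j (v i) (v j) hji.symm hi hj
        have h3 : χ v = χ (v + u) + χ u := by
          conv_lhs => rw [hvw]
          apply hχ _ _ hw huu
          rw [← hvw]; exact hv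
        have h4 : L v = L (v + u) + L u := by
          conv_lhs => rw [hvw]
          rw [map_add]
        rw [h3, h4, h1, h2]
    intro v hv
    exact key _ v hv rfl
  · refine ⟨0, ?_⟩
    intro v hv
    have hv0 : v = 0 := by
      by_contra hne
      obtain ⟨i, hi⟩ : ∃ i, v i ≠ 0 := by
        by_contra hcon
        push Not at hcon
        exact hne (funext hcon)
      rw [herm_self_eq hF, Finset.sum_eq_single i] at hv
      · exact hi (pow_eq_zero_iff three_ne_zero |>.1 hv)
      · intro j _ hj
        exact absurd ⟨j, i, hj⟩ hn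
      · intro h
        exact absurd (Finset.mem_univ i) h
    rw [hv0, map_zero, chi_zero hχ]

/-- **Lemma U**: a function on the isotropic vectors of a nondegenerate Hermitian space over the
field with four elements, with values in a group of exponent two, which is additive on the triples
`v, w, v + w` of isotropic vectors, is the restriction of an additive function. -/
theorem exists_linear {V : Type*} [AddCommGroup V] [Module F V] [Finite V] {h : V → V → F}
    (hF : Fintype.card F = 2 ^ 2) (H : HermSp F V h) (hA : ∀ a : A, a + a = 0)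
    {χ : V → A} (hχ : ∀ v w : V, h v v = 0 → h w w = 0 → h (v + w) (v + w) = 0 →
      χ (v + w) = χ v + χ w) :
    ∃ L : V →+ A, ∀ v : V, h v v = 0 → L v = χ v := by
  obtain ⟨e, he⟩ := exists_isometry hF H rfl
  have hes : ∀ u v : Fin (Module.finrank F V) → F,
      h (e.symm u) (e.symm v) = hermForm _ F 2 u v := by
    intro u v
    rw [← he, e.apply_symm_apply, e.apply_symm_apply]
  have h1 : AddIso (fun v : Fin (Module.finrank F V) → F => χ (e.symm v)) := by
    intro v w hv hw hvw
    simp only [map_add]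
    apply hχ
    · rw [hes, hv]
    · rw [hes, hw]
    · rw [← map_add, hes, hvw]
  obtain ⟨L, hL⟩ := exists_linear_std hF hA h1
  refine ⟨L.comp e.toLinearMap.toAddMonoidHom, ?_⟩
  intro v hv
  have := hL (e v) (by rw [he, hv])
  simp only [e.symm_apply_apply] at this
  exact this

end Cfsg.Agent.Fischer920.LemmaU
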