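import Cfsg.Agent.Fischer920.Closed
import Cfsg.Agent.Fischer480.Transport
import Cfsg.Agent.ThreeTransPolar.Lines

set_option autoImplicit false

/-!
# The local structure of `D_x ∩ D_a` for non commuting `x`, `a` (piece (1.4) of S0480)
-/

namespace Cfsg.Agent.Fischer920.LocalStruct

open Cfsg Cfsg.Agent.SporadicStructure.FischerSpace Cfsg.Agent.ThreeTransPolar.Basic
open Cfsg.Agent.Fischer920.WFStruct Cfsg.Agent.Fischer920.Closed
open Cfsg.Agent.Fischer480.Defs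
open Cfsg.Agent.Fischer480.Transport

universe u v

/-- conversion between the two forms of the hypotheses -/
theorem inh {G : Type u} [Group G] {D : Set G} (F : FGroup D) :
    Fischer160.Inherit.FGroup D := ⟨fdata_of_class F.cls, F.sol, F.perf⟩

theorem fgroup_of_inh {G : Type u} [Group G] {D : Set G} (F : Fischer160.Inherit.FGroup D) :
    FGroup D := ⟨Fischer160.Inherit.isThree_of_fdata F.fd, F.sol, F.perf⟩

section Basic

variable {G : Type u} [Group G]

theorem loc_com {D : Set G} {x a y : G} : Com (Loc D y) x a = Loc (Com D x a) y := by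
  ext z
  constructor
  · rintro ⟨⟨h1, h2, h3⟩, h4, h5⟩
    exact ⟨⟨h1, h4, h5⟩, h2, h3⟩
  · rintro ⟨⟨h1, h4, h5⟩, h2, h3⟩
    exact ⟨⟨h1, h2, h3⟩, h4, h5⟩

/-- `X` has the commuting graph of an `FGroup`. -/
def FSp (X : Set G) : Prop :=
  ∃ (K : Type u) (_ : Group K) (_ : Finite K) (E : Set K), FGroup E ∧ CIso X E

variable {X : Set G}

theorem FSp.nonempty (h : FSp X) : X.Nonempty := by
  obtain ⟨K, i1, i2, E, hE, φ, hφ, hc⟩ := h
  obtain ⟨e, he⟩ := (inh hE).fd.nonempty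
  obtain ⟨x, hx, -⟩ := hφ.surjOn he
  exact ⟨x, hx⟩

theorem FSp.exists_perp (h : FSp X) {x : G} (hx : x ∈ X) : ∃ z ∈ X, z ≠ x ∧ Commute x z := by
  obtain ⟨K, i1, i2, E, hE, φ, hφ, hc⟩ := h
  obtain ⟨e, he, hne, hce⟩ := SporadicStructure.FischerPrimitive.exists_perp (inh hE).fd hE.sol
    hE.perf _ (hφ.mapsTo hx)
  obtain ⟨z, hz, rfl⟩ := hφ.surjOn he
  exact ⟨z, hz, fun h1 => hne (by rw [h1]), (hc x hx z hz).2 hce⟩

theorem FSp.exists_col (h : FSp X) {x : G} (hx : x ∈ X) : ∃ z ∈ X, ¬ Commute x z := by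
  obtain ⟨K, i1, i2, E, hE, φ, hφ, hc⟩ := h
  obtain ⟨e, he, hce⟩ := SporadicStructure.FischerPrimitive.exists_col (inh hE).fd hE.sol
    _ (hφ.mapsTo hx)
  obtain ⟨z, hz, rfl⟩ := hφ.surjOn he
  exact ⟨z, hz, fun h1 => hce ((hc x hx z hz).1 h1)⟩

theorem FSp.eq_of_perp_iff (h : FSp X) {x y : G} (hx : x ∈ X) (hy : y ∈ X)
    (hxy : ∀ w ∈ X, (w ≠ x ∧ Commute w x) ↔ (w ≠ y ∧ Commute w y)) : x = y := by
  obtain ⟨K, i1, i2, E, hE, φ, hφ, hc⟩ := h
  apply hφ.injOn hx hy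
  apply SporadicStructure.FischerPrimitive.eq_of_perp_iff (inh hE).fd hE.sol hE.perf
    (hφ.mapsTo hx) (hφ.mapsTo hy)
  intro w hw
  obtain ⟨z, hz, rfl⟩ := hφ.surjOn hw
  have hi : ∀ t ∈ X, (φ z ≠ φ t ↔ z ≠ t) := fun t ht =>
    ⟨fun h1 h2 => h1 (by rw [h2]), fun h1 h2 => h1 (hφ.injOn hz ht h2)⟩
  rw [hi x hx, hi y hy, ← hc z hz x hx, ← hc z hz y hy]
  exact hxy z hz

/-- members commuting in `X` have a common non commuting neighbour -/
theorem FSp.both (h : FSp X) {x y : G} (hx : x ∈ X) (hy : y ∈ X) (hxy : Commute x y) :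
    ∃ u ∈ X, ¬ Commute u x ∧ ¬ Commute u y := by
  obtain ⟨K, i1, i2, E, hE, φ, hφ, hc⟩ := h
  obtain ⟨e, he, h1, h2⟩ := SporadicStructure.FischerRank3.exists_not_commute_both (inh hE).fd
    hE.sol hE.perf (hφ.mapsTo hx) (hφ.mapsTo hy) ((hc x hx y hy).1 hxy)
  obtain ⟨z, hz, rfl⟩ := hφ.surjOn he
  exact ⟨z, hz, fun h3 => h1 ((hc z hz x hx).1 h3), fun h3 => h2 ((hc z hz y hy).1 h3)⟩

theorem FSp.conn (h : FSp X) {x y : G} (hx : x ∈ X) (hy : y ∈ X) :
    Relation.ReflTransGen (stp X) x y := by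
  by_cases hc : Commute x y
  · obtain ⟨u, hu, h1, h2⟩ := h.both hx hy hc
    exact (Relation.ReflTransGen.single ⟨hx, hu, fun h3 => h1 h3.symm⟩).tail ⟨hu, hy, h2⟩
  · exact Relation.ReflTransGen.single ⟨hx, hy, hc⟩

theorem stp_mono {X Y : Set G} (hXY : X ⊆ Y) {x y : G} (h : Relation.ReflTransGen (stp X) x y) :
    Relation.ReflTransGen (stp Y) x y := by
  induction h with
  | refl => exact Relation.ReflTransGen.refl
  | tail _ h2 ih => exact ih.tail ⟨hXY h2.1, hXY h2.2.1, h2.2.2⟩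

theorem stp_symm {X : Set G} {x y : G} (h : Relation.ReflTransGen (stp X) x y) :
    Relation.ReflTransGen (stp X) y x := by
  induction h with
  | refl => exact Relation.ReflTransGen.refl
  | tail _ h2 ih => exact Relation.ReflTransGen.head ⟨h2.2.1, h2.1, fun h3 => h2.2.2 h3.symm⟩ ih

end Basic

section Main

variable {G : Type u} [Group G] {Δ : Set G}

/-- A closed set of 3-transpositions all whose local spaces are F-spaces is twin free and
connected. -/
theorem cl_of_local (hsq : ∀ x ∈ Δ, x * x = 1) (hcl : ∀ x ∈ Δ, ∀ y ∈ Δ, x * y * x ∈ Δ)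
    (hbr : ∀ x ∈ Δ, ∀ y ∈ Δ, ¬ Commute x y → x * y * x = y * x * y) (hne : Δ.Nonempty)
    (hloc : ∀ y ∈ Δ, FSp (Loc Δ y)) : Cl Δ := by
  have hconn : ∀ x ∈ Δ, ∀ y ∈ Δ, Relation.ReflTransGen (stp Δ) x y := by
    intro y hy w hw
    by_cases hyw : Commute y w
    · by_cases hE : w = y
      · rw [hE]
      have hwy : w ∈ Loc Δ y := ⟨hw, hE, hyw⟩
      have hyw' : y ∈ Loc Δ w := ⟨hy, fun h1 => hE h1.symm, hyw.symm⟩
      obtain ⟨u, hu, huw, hcu⟩ := (hloc y hy).exists_perp hwy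
      have hu' : u ∈ Loc Δ w := ⟨hu.1, huw, hcu⟩
      have h1 := (hloc y hy).conn hu hwy
      have h2 := (hloc w hw).conn hyw' hu'
      exact (stp_mono (fun _ h => h.1) h2).trans (stp_mono (fun _ h => h.1) h1)
    · exact Relation.ReflTransGen.single ⟨hy, hw, hyw⟩
  refine ⟨hsq, hcl, hbr, hconn, hne, ?_, ?_, ?_⟩
  · intro y hy
    obtain ⟨w, hw⟩ := (hloc y hy).nonempty
    rcases Relation.ReflTransGen.cases_head (hconn y hy w hw.1) with h1 | ⟨c, h1, -⟩
    · exact absurd h1.symm hw.2.1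
    · exact ⟨c, h1.2.1, h1.2.2⟩
  · intro y hy y' hy' hc htw
    by_contra hne'
    have h1 : y' ∈ Loc Δ y := ⟨hy', fun h2 => hne' h2.symm, hc⟩
    obtain ⟨z, hz, hnc⟩ := (hloc y hy).exists_col h1
    exact hnc ((htw z hz.1).1 hz.2.2.symm).symm
  · intro y hy y' hy' hnc htw
    obtain ⟨z, hz⟩ := (hloc y hy).nonempty
    have h1 : y ∈ Loc Δ z := ⟨hy, fun h2 => hz.2.1 h2.symm, hz.2.2.symm⟩
    have h2 := (htw z hz.1).1 ⟨hz.2.1, hz.2.2.symm⟩
    have h3 : y' ∈ Loc Δ z := ⟨hy', fun h4 => h2.1 h4.symm, h2.2⟩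
    have h4 := (hloc z hz.1).eq_of_perp_iff h1 h3 (fun w hw => htw w hw.1)
    rw [h4] at hnc
    exact hnc (Commute.refl _)

/-- **General local structure theorem.** A closed set of 3-transpositions all whose local spaces
are F-spaces is a union of `3 ^ j` F-spaces of equal size. -/
theorem blocks_of_local [Finite G] (hsq : ∀ x ∈ Δ, x * x = 1)
    (hcl : ∀ x ∈ Δ, ∀ y ∈ Δ, x * y * x ∈ Δ)
    (hbr : ∀ x ∈ Δ, ∀ y ∈ Δ, ¬ Commute x y → x * y * x = y * x * y) (hne : Δ.Nonempty)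
    (hloc : ∀ y ∈ Δ, FSp (Loc Δ y)) :
    ∃ (K : Type u) (_ : Group K) (_ : Finite K) (E : Set K), FGroup E ∧
      (∃ j : ℕ, Δ.ncard = 3 ^ j * E.ncard) ∧ (∃ B ⊆ Δ, CIso B E) ∧
      ∀ e ∈ E, ∃ y ∈ Δ, CIso (Loc E e) (Loc Δ y) := by
  classical
  have C := cl_of_local hsq hcl hbr hne hloc
  have h := fdata_EK C
  have hsol := sol_KQ C
  obtain ⟨S, hS1, hS2, hS3⟩ := exists_simple h hsol
  have hS : Simp S := ⟨hS1, hS2, hS3⟩
  obtain ⟨y0, hy0⟩ := hne
  have he0 : proj Δ y0 ∈ EK Δ := (proj_bijOn C).mapsTo hy0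
  set e0 := proj Δ y0 with he0def
  set L := Subgroup.closure (Bl (EK Δ) S e0) with hL
  have hEB : ∀ f : KQ Δ, f ∈ Bl (EK Δ) S e0 → f ∈ L := fun f hf => Subgroup.subset_closure hf
  refine ⟨L, inferInstance, inferInstance, BlSet (EK Δ) S e0,
    fgroup_of_inh (fgroup_Bl h hsol hS he0), ?_, ?_, ?_⟩
  · obtain ⟨j, hj⟩ := exists_pow h hsol hS he0
    refine ⟨j, ?_⟩
    rw [ncard_eq (cIso_EK C), hj]
    congr 1
    have h1 : Bl (EK Δ) S e0 = Subtype.val '' (BlSet (EK Δ) S e0) := by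
      ext f
      constructor
      · intro hf
        exact ⟨⟨f, hEB f hf⟩, hf, rfl⟩
      · rintro ⟨g, hg, rfl⟩
        exact hg
    rw [h1, Set.ncard_image_of_injective _ Subtype.val_injective]
  · refine ⟨{y | y ∈ Δ ∧ proj Δ y ∈ Bl (EK Δ) S e0}, fun y hy => hy.1,
      fun y => if hy : proj Δ y ∈ L then ⟨proj Δ y, hy⟩ else 1, ⟨?_, ?_, ?_⟩, ?_⟩
    · intro y hy
      simp only [dif_pos (hEB _ hy.2)]
      exact hy.2
    · intro y hy z hz hyz
      simp only [dif_pos (hEB _ hy.2), dif_pos (hEB _ hz.2)] at hyz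
      exact (proj_bijOn C).injOn hy.1 hz.1 (congrArg Subtype.val hyz)
    · intro f hf
      obtain ⟨y, hy, hyf⟩ := (proj_bijOn C).surjOn hf.1
      refine ⟨y, ⟨hy, by rw [hyf]; exact hf⟩, ?_⟩
      have h1 : proj Δ y ∈ L := by rw [hyf]; exact f.2
      simp only [dif_pos h1]
      exact Subtype.ext hyf
    · intro y hy z hz
      simp only [dif_pos (hEB _ hy.2), dif_pos (hEB _ hz.2)]
      rw [proj_commute C hy.1 hz.1]
      constructor
      · intro h1; exact Subtype.ext h1.eq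
      · intro h1; exact congrArg Subtype.val h1.eq
  · intro e he
    obtain ⟨y, hy, hye⟩ := (proj_bijOn C).surjOn he.1
    refine ⟨y, hy, CIso.symm ⟨fun z => if hz : proj Δ z ∈ L then ⟨proj Δ z, hz⟩ else 1,
      ⟨?_, ?_, ?_⟩, ?_⟩⟩
    all_goals
      have hblk : ∀ z ∈ Loc Δ y, proj Δ z ∈ Bl (EK Δ) S e0 := by
        intro z hz
        have hzE : proj Δ z ∈ EK Δ := (proj_bijOn C).mapsTo hz.1
        have h1 : Commute (proj Δ y) (proj Δ z) := (proj_commute C hy hz.1).1 hz.2.2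
        have h2 := mul_mem_of_commute h hsol hS ((proj_bijOn C).mapsTo hy) hzE h1
        have h3 : e0 * proj Δ y ∈ S := by rw [hye]; exact he.2
        refine ⟨hzE, ?_⟩
        have h4 := mul_mem h3 h2
        have h5 : e0 * proj Δ y * (proj Δ y * proj Δ z) = e0 * proj Δ z := by
          have h6 := h.sq _ ((proj_bijOn C).mapsTo hy)
          calc e0 * proj Δ y * (proj Δ y * proj Δ z)
              = e0 * (proj Δ y * proj Δ y) * proj Δ z := by group
            _ = e0 * proj Δ z := by rw [h6, mul_one]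
        rwa [h5] at h4
    · intro z hz
      have h1 := hblk z hz
      simp only [dif_pos (hEB _ h1)]
      refine ⟨h1, ?_, ?_⟩
      · intro h2
        have h3 : proj Δ z = proj Δ y := by
          rw [hye]; exact congrArg Subtype.val h2
        exact hz.2.1 ((proj_bijOn C).injOn hz.1 hy h3)
      · apply Subtype.ext
        have h2 := (proj_commute C hy hz.1).1 hz.2.2
        rw [hye] at h2
        exact h2.eq
    · intro z hz w hw hzw
      simp only [dif_pos (hEB _ (hblk z hz)), dif_pos (hEB _ (hblk w hw))] at hzw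
      exact (proj_bijOn C).injOn hz.1 hw.1 (congrArg Subtype.val hzw)
    · rintro f ⟨hf1, hf2, hf3⟩
      obtain ⟨z, hz, hzf⟩ := (proj_bijOn C).surjOn hf1.1
      have h3 : Commute y z := by
        rw [proj_commute C hy hz, hye, hzf]
        exact congrArg Subtype.val hf3.eq
      refine ⟨z, ⟨hz, ?_, h3⟩, ?_⟩
      · intro h4
        apply hf2
        apply Subtype.ext
        rw [← hzf, ← hye, h4]
      · have h1 : proj Δ z ∈ L := by rw [hzf]; exact f.2
        simp only [dif_pos h1]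
        exact Subtype.ext hzf
    · intro z hz w hw
      simp only [dif_pos (hEB _ (hblk z hz)), dif_pos (hEB _ (hblk w hw))]
      rw [proj_commute C hz.1 hw.1]
      constructor
      · intro h1; exact Subtype.ext h1.eq
      · intro h1; exact congrArg Subtype.val h1.eq

/-- noncommuting members have common neighbours -/
theorem com_nonempty [Finite G] {D : Set G} (F : FGroup D) {x a : G} (hx : x ∈ D) (ha : a ∈ D)
    (hxa : ¬ Commute x a) : (Com D x a).Nonempty := by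
  have R := Fischer160.Inherit.rk_of_FGroup (inh F)
  obtain ⟨p, hp, w, hw, d, hd, hpw, hdp, hdw⟩ := R.exNonPerp
  obtain ⟨g, hg1, hg2⟩ := ThreeTransPolar.Lines.pair_conj_col R hp hw hx ha hpw hxa
  refine ⟨cj g d, cj_mem R.fd hd, ?_, ?_⟩
  · rw [← hg1, commute_cj]; exact hdp.symm
  · rw [← hg2, commute_cj]; exact hdw.symm

/-- **(1.4)** The local structure of `D_x ∩ D_a`. -/
theorem local_structure [Finite G] {D : Set G} (F : FGroup D) {x a : G} (hx : x ∈ D) (ha : a ∈ D)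
    (hxa : ¬ Commute x a) (hX : ∀ y ∈ Com D x a, FSp (Com (Loc D y) x a)) :
    ∃ (K : Type u) (_ : Group K) (_ : Finite K) (E : Set K), FGroup E ∧
      (∃ j : ℕ, (Com D x a).ncard = 3 ^ j * E.ncard) ∧ (∃ B ⊆ Com D x a, CIso B E) ∧
      ∀ e ∈ E, ∃ y ∈ Com D x a, CIso (Loc E e) (Com (Loc D y) x a) := by
  have h := (inh F).fd
  have hC : ∀ t : G, ∀ y z : G, Commute t y → Commute t z → Commute t (y * z * y) :=
    fun t y z h1 h2 => (h1.mul_right h2).mul_right h1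
  have key := blocks_of_local (Δ := Com D x a) (fun y hy => h.sq y hy.1)
    (fun y hy z hz => ⟨h.conj' hy.1 hz.1, hC x y z hy.2.1 hz.2.1, hC a y z hy.2.2 hz.2.2⟩)
    (fun y hy z hz hyz => h.braid y hy.1 z hz.1 hyz) (com_nonempty F hx ha hxa)
    (fun y hy => by
      have := hX y hy
      rwa [loc_com] at this)
  obtain ⟨K, i1, i2, E, h1, h2, h3, h4⟩ := key
  refine ⟨K, i1, i2, E, h1, h2, h3, ?_⟩
  intro e he
  obtain ⟨y, hy, hcy⟩ := h4 e he
  exact ⟨y, hy, by rw [loc_com]; exact hcy⟩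

end Main

end Cfsg.Agent.Fischer920.LocalStruct
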