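import Cfsg.Agent.Fischer920.LocalStruct
import Cfsg.Agent.SporadicStructure.FischerOdd2

set_option autoImplicit false

/-!
# Piece (1.2) of S0480: `D_a ∩ D_b = D_a ∩ D_c` implies `c ∈ {b, aba}`
-/

namespace Cfsg.Agent.Fischer920.Theta

open Cfsg Cfsg.Agent.SporadicStructure.FischerSpace Cfsg.Agent.ThreeTransPolar.Basic
open Cfsg.Agent.ThreeTransPolar.Lines
open Cfsg.Agent.Fischer480.Defs
open Cfsg.Agent.Fischer480.Transport
open Cfsg.Agent.Fischer920.LocalStruct

universe u v

/-- the third point of a line is determined by the common neighbours -/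
def ThetaProp {G : Type u} [Group G] (D : Set G) : Prop :=
  ∀ a ∈ D, ∀ b ∈ D, ¬ Commute a b → ∀ c ∈ D, ¬ Commute a c →
    (∀ z ∈ D, Commute z a → Commute z b → Commute z c) → c = b ∨ c = a * b * a

section Sym

theorem pair_cases {n : ℕ} {i j k : Fin n} {s : Finset (Fin n)} (hs : s ⊆ {i, j, k})
    (hc : s.card = 2) : s = {i, j} ∨ s = {i, k} ∨ s = {j, k} := by
  obtain ⟨p, q, hpq, rfl⟩ := Finset.card_eq_two.1 hc
  have hp : p = i ∨ p = j ∨ p = k := by
    have := hs (show p ∈ ({p, q} : Finset (Fin n)) by simp)
    simpa using this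
  have hq : q = i ∨ q = j ∨ q = k := by
    have := hs (show q ∈ ({p, q} : Finset (Fin n)) by simp)
    simpa using this
  rcases hp with rfl | rfl | rfl <;> rcases hq with rfl | rfl | rfl <;>
    simp_all [Finset.pair_comm]

variable {G : Type u} [Group G] {D : Set G}

theorem not_commute_third (h : FData D) {a b : G} (ha : a ∈ D) (hab : ¬ Commute a b) :
    ¬ Commute a (a * b * a) := by
  intro h1
  apply hab
  have h2 : a * (a * b * a) = (a * b * a) * a := h1.eq
  have h3 := h.sq a ha
  show a * b = b * a
  calc a * b = a * b * (a * a) := by rw [h3, mul_one]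
    _ = (a * b * a) * a := by group
    _ = a * (a * b * a) := h2.symm
    _ = (a * a) * b * a := by group
    _ = b * a := by rw [h3, one_mul]

theorem not_commute_third' (h : FData D) {a b : G} (ha : a ∈ D) (hb : b ∈ D)
    (hab : ¬ Commute a b) : ¬ Commute b (a * b * a) := by
  rw [h.braid a ha b hb hab]
  exact not_commute_third h hb (fun h1 => hab h1.symm)

theorem theta_of_isSym (h : FData D) {n : ℕ} (hn : 5 ≤ n) (hs : IsSym n D) : ThetaProp D := by
  classical
  obtain ⟨f, hcard, hcomm, hinj, hsurj⟩ := hs
  intro a ha b hb hab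
  have key : ∀ c ∈ D, ¬ Commute a c → (∀ z ∈ D, Commute z a → Commute z b → Commute z c) →
      f c ⊆ f a ∪ f b := by
    intro c hc hac hz l hl
    by_contra hlu
    have h1 : (f a ∪ f b).card ≤ 3 := by
      rw [hcomm a ha b hb] at hab
      push Not at hab
      have h2 : 0 < (f a ∩ f b).card := by
        rw [Finset.card_pos, ← Finset.not_disjoint_iff_nonempty_inter]; exact hab.2
      have h3 := Finset.card_union_add_card_inter (f a) (f b)
      rw [hcard a ha, hcard b hb] at h3
      omega
    have h2 : (f a ∪ f b ∪ f c).card ≤ 4 := by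
      rw [hcomm a ha c hc] at hac
      push Not at hac
      have h2 : 0 < ((f a ∪ f b) ∩ f c).card := by
        rw [Finset.card_pos, ← Finset.not_disjoint_iff_nonempty_inter]
        intro h5
        exact hac.2 (Disjoint.mono_left Finset.subset_union_left h5)
      have h3 := Finset.card_union_add_card_inter (f a ∪ f b) (f c)
      rw [hcard c hc] at h3
      omega
    obtain ⟨m, hm⟩ : ∃ m, m ∉ f a ∪ f b ∪ f c := by
      by_contra hcon
      push Not at hcon
      have h3 : f a ∪ f b ∪ f c = Finset.univ := Finset.eq_univ_iff_forall.2 hcon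
      rw [h3, Finset.card_univ, Fintype.card_fin] at h2
      omega
    simp only [Finset.mem_union, not_or] at hm hlu
    have hlm : l ≠ m := by rintro rfl; exact hm.2 hl
    obtain ⟨z, hzD, hfz⟩ := hsurj {l, m} (Finset.card_pair hlm)
    have h3 : Commute z a := by
      rw [hcomm z hzD a ha, hfz]
      right
      rw [Finset.disjoint_left]
      intro t ht
      rw [Finset.mem_insert, Finset.mem_singleton] at ht
      rcases ht with rfl | rfl
      · exact hlu.1
      · exact hm.1.1
    have h4 : Commute z b := by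
      rw [hcomm z hzD b hb, hfz]
      right
      rw [Finset.disjoint_left]
      intro t ht
      rw [Finset.mem_insert, Finset.mem_singleton] at ht
      rcases ht with rfl | rfl
      · exact hlu.2
      · exact hm.1.2
    have h5 := hz z hzD h3 h4
    rw [hcomm z hzD c hc, hfz] at h5
    rcases h5 with h5 | h5
    · apply hm.2
      rw [← h5]; simp
    · rw [Finset.disjoint_left] at h5
      exact h5 (by simp) hl
  -- coordinates
  have hab' := hab
  rw [hcomm a ha b hb] at hab'
  push Not at hab'
  obtain ⟨i, hi⟩ := Finset.not_disjoint_iff_nonempty_inter.1 hab'.2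
  rw [Finset.mem_inter] at hi
  have hex : ∀ s : Finset (Fin n), s.card = 2 → i ∈ s → ∃ j, j ≠ i ∧ s = {i, j} := by
    intro s hs his
    obtain ⟨p, q, hpq, rfl⟩ := Finset.card_eq_two.1 hs
    rw [Finset.mem_insert, Finset.mem_singleton] at his
    rcases his with rfl | rfl
    · exact ⟨q, hpq.symm, rfl⟩
    · exact ⟨p, hpq, Finset.pair_comm _ _⟩
  obtain ⟨j, hji, hfa⟩ := hex (f a) (hcard a ha) hi.1
  obtain ⟨k, hki, hfb⟩ := hex (f b) (hcard b hb) hi.2
  have hU : f a ∪ f b = {i, j, k} := by
    rw [hfa, hfb]
    ext t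
    simp only [Finset.mem_union, Finset.mem_insert, Finset.mem_singleton]
    tauto
  have hcase : ∀ c ∈ D, ¬ Commute a c → (∀ z ∈ D, Commute z a → Commute z b → Commute z c) →
      f c = f b ∨ f c = {j, k} := by
    intro c hc hac hz
    have h1 := key c hc hac hz
    rw [hU] at h1
    rcases pair_cases h1 (hcard c hc) with h2 | h2 | h2
    · exfalso
      apply hac
      rw [hcomm a ha c hc]
      left
      rw [hfa, h2]
    · left; rw [h2, hfb]
    · right; exact h2
  intro c hc hac hz
  have htD : a * b * a ∈ D := h.conj' ha hb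
  rcases hcase c hc hac hz with h1 | h1
  · left
    exact hinj c hc b hb h1
  · right
    apply hinj c hc _ htD
    rw [h1]
    rcases hcase (a * b * a) htD (not_commute_third h ha hab)
        (fun z hz h1 h2 => (h1.mul_right h2).mul_right h1) with h2 | h2
    · exfalso
      apply not_commute_third' h ha hb hab
      rw [hcomm b hb _ htD]
      left; exact h2.symm
    · exact h2.symm

end Sym

section Five

open Equiv Equiv.Perm

theorem isSwap_of_sq : ∀ σ : Perm (Fin 5), σ * σ = 1 → sign σ = -1 →
    ∃ i j : Fin 5, i ≠ j ∧ σ = swap i j := by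
  decide +kernel

theorem swap_comm_iff : ∀ i j k l : Fin 5, i ≠ j → k ≠ l →
    (swap i j * swap k l = swap k l * swap i j ↔
      (({i, j} : Finset (Fin 5)) = {k, l} ∨ Disjoint ({i, j} : Finset (Fin 5)) {k, l})) := by
  decide +kernel

theorem swap_inj : ∀ i j k l : Fin 5, i ≠ j → k ≠ l →
    (({i, j} : Finset (Fin 5)) = {k, l} → swap i j = swap k l) := by
  decide +kernel

theorem isSym_five {G : Type u} [Group G] {D : Set G} (h : FData D) (e : G ≃* Perm (Fin 5)) :
    IsSym 5 D := by
  classical
  have hsgn : ∀ d ∈ D, sign (e d) = -1 := by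
    by_contra hcon
    push Not at hcon
    obtain ⟨d, hd, h1⟩ := hcon
    have h1' : sign (e d) = 1 := by
      rcases Int.units_eq_one_or (sign (e d)) with h2 | h2
      · exact h2
      · exact absurd h2 h1
    have h2 : (⊤ : Subgroup G) ≤ (sign.comp e.toMonoidHom).ker := by
      rw [← h.gen, Subgroup.closure_le]
      intro x hx
      obtain ⟨g, hg⟩ := h.single d hd x hx
      rw [SetLike.mem_coe, MonoidHom.mem_ker]
      show sign (e x) = 1
      rw [← hg, map_mul, map_mul, map_mul, map_mul, h1', map_inv, map_inv]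
      simp
    have h3 : sign (e (e.symm (swap 0 1))) = 1 := h2 (Subgroup.mem_top _)
    rw [MulEquiv.apply_symm_apply, sign_swap (by decide)] at h3
    exact absurd h3 (by decide)
  have hsw : ∀ d ∈ D, ∃ i j : Fin 5, i ≠ j ∧ e d = swap i j := by
    intro d hd
    apply isSwap_of_sq _ _ (hsgn d hd)
    rw [← map_mul, h.sq d hd, map_one]
  choose! p q hpq hd using hsw
  refine ⟨fun d => {p d, q d}, ?_, ?_, ?_, ?_⟩
  · intro x hx
    exact Finset.card_pair (hpq x hx)
  · intro x hx y hy
    rw [← swap_comm_iff _ _ _ _ (hpq x hx) (hpq y hy), ← hd x hx, ← hd y hy, ← map_mul,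
      ← map_mul, e.injective.eq_iff]
    rfl
  · intro x hx y hy hxy
    apply e.injective
    rw [hd x hx, hd y hy]
    exact swap_inj _ _ _ _ (hpq x hx) (hpq y hy) hxy
  · intro s hs
    obtain ⟨i, j, hij, rfl⟩ := Finset.card_eq_two.1 hs
    obtain ⟨d0, hd0⟩ := h.nonempty
    obtain ⟨g, hg⟩ := isConj_iff.1 (isConj_swap (hpq d0 hd0) hij)
    have h1 : e.symm g * d0 * (e.symm g)⁻¹ ∈ D := h.conj _ _ hd0
    refine ⟨_, h1, ?_⟩
    have h2 : e (e.symm g * d0 * (e.symm g)⁻¹) = swap i j := by
      rw [map_mul, map_mul, map_inv, MulEquiv.apply_symm_apply, hd d0 hd0, hg]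
    have h3 := hd _ h1
    rw [h2] at h3
    have h4 := congrArg support h3
    rw [support_swap hij, support_swap (hpq _ h1)] at h4
    exact h4.symm

end Five

section Main

theorem theta_of_thick {G : Type u} [Group G] [Finite G] {D : Set G} (T : Thick D) :
    ThetaProp D := by
  intro a ha b hb hab c hc hac hz
  have h1 : c = a ∨ c = b ∨ c = a * b * a := by
    rcases Cfsg.Agent.ThreeTransPolar.Main.polar_cases T with P | P
    · exact P.hyp a ha b hb hab c hc hz
    · exact P.hyp a ha b hb hab c hc hz
  rcases h1 with rfl | h1 | h1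
  · exact absurd (Commute.refl _) hac
  · exact Or.inl h1
  · exact Or.inr h1

theorem theta_aux (n : ℕ) : ∀ {G : Type u} [Group G] [Finite G] {D : Set G},
    Fischer160.Inherit.FGroup D → D.ncard ≤ n → ThetaProp D := by
  induction n with
  | zero =>
    intro G _ _ D F hn
    exfalso
    obtain ⟨d, hd⟩ := F.fd.nonempty
    have : 0 < D.ncard := (Set.ncard_pos (Set.toFinite D)).2 ⟨d, hd⟩
    omega
  | succ n ih =>
    intro G _ _ D F hn
    have R := Fischer160.Inherit.rk_of_FGroup F
    by_cases ht : Fischer160.Inherit.ThinLines D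
    swap
    · rw [Fischer160.Inherit.ThinLines] at ht
      push Not at ht
      obtain ⟨x', hx', y', hy', hne, hc, z', hz', h3, h4⟩ := ht
      exact theta_of_thick (Cfsg.Agent.ThreeTransPolar.Main.thick_of_exists R hx' hy' hne hc
        ⟨z', hz', h3, h4⟩)
    by_cases ho : ∃ x ∈ D, ¬ Cfsg.oddCore (Fischer160.Inherit.HH D x) ≤
        Subgroup.center (Fischer160.Inherit.HH D x)
    · obtain ⟨x, hx, ho⟩ := ho
      obtain ⟨a, b, ha, hb, hab, hblk⟩ :=
        Cfsg.Agent.SporadicStructure.FischerOdd.exists_block F.fd ho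
      obtain ⟨e⟩ := Cfsg.Agent.SporadicStructure.FischerOdd2.main F.fd F.sol F.perf hx ha hb hab
        hblk
      exact theta_of_isSym F.fd le_rfl (isSym_five F.fd e)
    · push Not at ho
      intro a ha b hb hab c hc hac hz
      obtain ⟨y, hy, hay, hby⟩ := com_nonempty (fgroup_of_inh F) ha hb hab
      have hcy : Commute y c := hz y hy hay.symm hby.symm
      have hya : a ∈ Fischer160.Inherit.Dx D y := by
        refine ⟨ha, ?_, hay.symm⟩
        rintro rfl
        exact hab hby.symm
      have hyb : b ∈ Fischer160.Inherit.Dx D y := by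
        refine ⟨hb, ?_, hby.symm⟩
        rintro rfl
        exact hab hay
      have hyc : c ∈ Fischer160.Inherit.Dx D y := by
        refine ⟨hc, ?_, hcy⟩
        rintro rfl
        exact hac hay
      have FE := Fischer160.Inherit.inherit F ht hy (ho y hy)
      have hth := Fischer160.Inherit.thin_of_thinLines ht hy
      have hcard : (Fischer160.Inherit.Eb D y).ncard ≤ n := by
        have h1 : Set.BijOn (Fischer160.Inherit.β D y) (Loc D y) (Fischer160.Inherit.Eb D y) :=
          ⟨fun a ha => Fischer160.Inherit.β_mem ha,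
            fun a ha b hb hab => Fischer160.Inherit.β_inj hth ha hb hab,
            fun c hc => Fischer160.Inherit.β_surj hc⟩
        rw [← h1.image_eq, h1.injOn.ncard_image]
        have hlt : (Loc D y).ncard < D.ncard := by
          refine Set.ncard_lt_ncard ?_ (Set.toFinite D)
          refine ⟨loc_subset D y, fun h => ?_⟩
          exact (h hy).2.1 rfl
        omega
      have hT := ih FE hcard
      have hβc : ∀ {s t : G}, s ∈ Loc D y → t ∈ Loc D y →
          (Commute (Fischer160.Inherit.β D y s) (Fischer160.Inherit.β D y t) ↔ Commute s t) :=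
        fun hs ht => Fischer160.Inherit.β_commute F.fd hth hs ht
      have hzz : ∀ z' ∈ Fischer160.Inherit.Eb D y,
          Commute z' (Fischer160.Inherit.β D y a) → Commute z' (Fischer160.Inherit.β D y b) →
          Commute z' (Fischer160.Inherit.β D y c) := by
        intro z' hz' h1 h2
        obtain ⟨z, hzD, rfl⟩ := Fischer160.Inherit.β_surj hz'
        rw [hβc hzD hyc]
        exact hz z hzD.1 ((hβc hzD hya).1 h1) ((hβc hzD hyb).1 h2)
      rcases hT _ (Fischer160.Inherit.β_mem hya) _ (Fischer160.Inherit.β_mem hyb)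
        (fun h1 => hab ((hβc hya hyb).1 h1)) _ (Fischer160.Inherit.β_mem hyc)
        (fun h1 => hac ((hβc hya hyc).1 h1)) hzz with h1 | h1
      · left
        exact Fischer160.Inherit.β_inj hth hyc hyb h1
      · right
        rw [← Fischer160.Inherit.β_third hya hyb] at h1
        refine Fischer160.Inherit.β_inj hth hyc ?_ h1
        refine ⟨F.fd.conj' ha hb, ?_, (hay.symm.mul_right hby.symm).mul_right hay.symm⟩
        intro h2
        apply not_commute_third F.fd ha hab
        rw [h2]; exact hay

/-- **(1.2)** -/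
theorem theta {G : Type u} [Group G] [Finite G] {D : Set G} (F : FGroup D) : ThetaProp D :=
  theta_aux _ (inh F) le_rfl

/-- (1.2) with the sets `D_x ∩ D_a` -/
theorem eq_or_eq_of_com_eq {G : Type u} [Group G] [Finite G] {D : Set G} (F : FGroup D)
    {x a b : G} (hx : x ∈ D) (ha : a ∈ D) (hb : b ∈ D) (hxa : ¬ Commute x a)
    (hxb : ¬ Commute x b) (h : Com D x a ⊆ Com D x b) : b = a ∨ b = x * a * x :=
  theta F x hx a ha hxa b hb hxb (fun _ hz h1 h2 => (h ⟨hz, h1.symm, h2.symm⟩).2.2.symm)

end Main

end Cfsg.Agent.Fischer920.Theta
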