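import Cfsg.Agent.Fischer160.Inherit
import Cfsg.Agent.Lib.HallTriple

set_option autoImplicit false

/-!
# Classes of 3-transpositions in groups without solvable normal subgroups

Let `E` be a class of 3-transpositions generating the finite group `K` without nontrivial solvable
normal subgroups.  There is a simple normal subgroup `S` with trivial centralizer, commuting
members of `E` are congruent modulo `S`, and the members of `E` in a coset `e S` are the class of
3-transpositions of an `FGroup`.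
-/

namespace Cfsg.Agent.Fischer920.WFStruct

open Cfsg Cfsg.Agent.SporadicStructure.FischerSpace Cfsg.Agent.SporadicStructure.FischerSolv
open Cfsg.Agent.Lib.Cores Cfsg.Agent.Fischer160.Inherit
open scoped commutatorElement

set_option linter.style.haveILetI false

universe u

section Sol

variable {K : Type u} [Group K]

theorem commutator_lt {A : Subgroup K} (hs : Group.IsSolvable A) (hA : A ≠ ⊥) :
    ⁅A, A⁆ ≠ A := by
  intro heq
  apply hA
  have h1 : commutator A = ⊤ := by
    apply Subgroup.map_injective A.subtype_injective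
    rw [Subgroup.map_subtype_commutator, heq, ← MonoidHom.range_eq_map, Subgroup.range_subtype]
  by_contra hne
  haveI : Nontrivial A := (Subgroup.nontrivial_iff_ne_bot A).2 hne
  obtain ⟨k, hk⟩ := hs
  have h4 : ∀ k, derivedSeries A k = ⊤ := by
    intro k
    induction k with
    | zero => rfl
    | succ k ihk => rw [derivedSeries_succ, ihk]; exact h1
  rw [h4 k] at hk
  exact absurd hk top_ne_bot

/-- In a group without solvable normal subgroups, a normal subgroup has no solvable normal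
subgroups. -/
theorem solvable_sub_bot [Finite K]
    (hsol : ∀ N : Subgroup K, N.Normal → Group.IsSolvable ↥N → N = ⊥)
    {S : Subgroup K} (hS : S.Normal) :
    ∀ A : Subgroup K, A ≤ S → (∀ s ∈ S, ∀ a ∈ A, s * a * s⁻¹ ∈ A) → Group.IsSolvable ↥A →
      A = ⊥ := by
  intro A
  induction' hn : Nat.card A using Nat.strong_induction_on with n ih generalizing A
  intro hAS hnorm hs
  by_contra hA
  have hle : ⁅A, A⁆ ≤ A := by
    rw [Subgroup.commutator_le]
    intro a ha b hb
    rw [commutatorElement_def]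
    exact mul_mem (mul_mem (mul_mem ha hb) (inv_mem ha)) (inv_mem hb)
  have hlt : ⁅A, A⁆ < A := lt_of_le_of_ne hle (commutator_lt hs hA)
  have hcard : Nat.card (⁅A, A⁆ : Subgroup K) < n := by
    rw [← hn]
    exact Set.ncard_lt_ncard (s := ((⁅A, A⁆ : Subgroup K) : Set K)) (t := (A : Set K)) hlt
      (Set.toFinite _)
  have hAbel : ⁅A, A⁆ = ⊥ := by
    refine ih _ hcard _ rfl (hlt.le.trans hAS) ?_ ?_
    · intro s hs' a ha
      have hmap : A.map (MulAut.conj s).toMonoidHom ≤ A := by
        rintro _ ⟨b, hb, rfl⟩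
        exact hnorm s hs' b hb
      have h1 : (⁅A, A⁆ : Subgroup K).map (MulAut.conj s).toMonoidHom ≤ ⁅A, A⁆ := by
        rw [Subgroup.map_commutator]
        exact Subgroup.commutator_mono hmap hmap
      exact h1 ⟨a, ha, rfl⟩
    · haveI := hs
      exact Group.isSolvable_of_isSolvable_injective
        (f := Subgroup.inclusion hlt.le) (Subgroup.inclusion_injective _)
  -- `A` is abelian, hence in the Fitting subgroup of `S`
  have hF : fittingSubgroup K = ⊥ := by
    haveI := fittingSubgroup_isNilpotent (G := K)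
    exact hsol _ fittingSubgroup_normal inferInstance
  have h2 : A.subgroupOf S ≤ fittingSubgroup S := by
    apply le_fittingSubgroup
    · constructor
      intro a ha s
      exact hnorm s s.2 a ha
    · have hc : ∀ a b : ↥(A.subgroupOf S), a * b = b * a := by
        intro a b
        apply Subtype.ext
        apply Subtype.ext
        have h3 : ⁅((a : S) : K), ((b : S) : K)⁆ ∈ ⁅A, A⁆ :=
          Subgroup.commutator_mem_commutator a.2 b.2
        rw [hAbel, Subgroup.mem_bot, commutatorElement_eq_one_iff_mul_comm] at h3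
        exact h3
      letI : CommGroup ↥(A.subgroupOf S) :=
        { (inferInstance : Group ↥(A.subgroupOf S)) with mul_comm := hc }
      exact CommGroup.isNilpotent
  apply hA
  rw [eq_bot_iff]
  intro a ha
  have h3 : (⟨a, hAS ha⟩ : S) ∈ fittingSubgroup S := h2 ha
  have h4 : a ∈ (fittingSubgroup S).map S.subtype := ⟨_, h3, rfl⟩
  rw [map_subtype_fittingSubgroup hS, hF] at h4
  exact h4.2

end Sol

section Main

variable {K : Type u} [Group K] {E : Set K}

theorem exists_min_subgroup [Finite K] (P : Subgroup K → Prop) (hP : ∃ N, P N) :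
    ∃ N, P N ∧ ∀ M, P M → M ≤ N → M = N := by
  classical
  obtain ⟨N, hN, hmin⟩ := Set.exists_min_image {N | P N} (fun N : Subgroup K => Nat.card N)
    (Set.toFinite _) hP
  refine ⟨N, hN, fun M hM hMN => ?_⟩
  exact Subgroup.eq_of_le_of_card_ge hMN (hmin M hM)

/-- a subgroup normalised by all members of a generating set of involutions is normal -/
theorem normal_of_gen (h : FData E) {N : Subgroup K}
    (hN : ∀ y ∈ E, ∀ n ∈ N, y * n * y⁻¹ ∈ N) : N.Normal := by
  have key : Subgroup.closure E ≤ Subgroup.normalizer (N : Set K) := by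
    rw [Subgroup.closure_le]
    intro y hy
    rw [SetLike.mem_coe, Subgroup.mem_normalizer_iff]
    intro n
    constructor
    · intro hn
      exact hN y hy n hn
    · intro hn
      have h1 := hN y hy _ hn
      have e : y * (y * n * y⁻¹) * y⁻¹ = n := by
        rw [h.inv_eq hy]
        calc y * (y * n * y) * y = (y * y) * n * (y * y) := by group
          _ = n := by rw [h.sq y hy]; group
      rwa [e] at h1
  rw [h.gen, top_le_iff, Subgroup.normalizer_eq_top_iff] at key
  exact key

/-- There is a simple normal subgroup. -/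
theorem exists_simple [Finite K] (h : FData E)
    (hsol : ∀ N : Subgroup K, N.Normal → Group.IsSolvable ↥N → N = ⊥) :
    ∃ S : Subgroup K, S.Normal ∧ S ≠ ⊥ ∧
      ∀ N : Subgroup K, N ≤ S → (∀ s ∈ S, ∀ n ∈ N, s * n * s⁻¹ ∈ N) → N = ⊥ ∨ N = S := by
  obtain ⟨x, hx⟩ := h.nonempty
  have hx1 := h.ne_one x hx
  obtain ⟨S₀, ⟨hS₀n, hS₀b⟩, hmin₀⟩ := exists_min_subgroup
    (fun N : Subgroup K => N.Normal ∧ N ≠ ⊥) ⟨⊤, inferInstance, by
      intro h1
      apply hx1
      have : x ∈ (⊤ : Subgroup K) := trivial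
      rw [h1] at this
      exact Subgroup.mem_bot.1 this⟩
  obtain ⟨S₁, ⟨hS₁le, hS₁n, hS₁b⟩, hmin₁⟩ := exists_min_subgroup
    (fun N : Subgroup K => N ≤ S₀ ∧ (∀ s ∈ S₀, ∀ n ∈ N, s * n * s⁻¹ ∈ N) ∧ N ≠ ⊥)
    ⟨S₀, le_rfl, fun s _ n hn => hS₀n.conj_mem n hn s, hS₀b⟩
  have hS₁norm : ∀ y ∈ E, ∀ n ∈ S₁, y * n * y⁻¹ ∈ S₁ := by
    intro y hy
    set M : Subgroup K := S₁.map (MulAut.conj y).toMonoidHom with hM
    have hMmem : ∀ n ∈ S₁, y * n * y⁻¹ ∈ M := fun n hn => ⟨n, hn, rfl⟩
    have hMn : ∀ s ∈ S₀, ∀ m ∈ M, s * m * s⁻¹ ∈ M := by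
      rintro s hs _ ⟨n, hn, rfl⟩
      have h1 : y⁻¹ * s * y ∈ S₀ := by
        have := hS₀n.conj_mem s hs y⁻¹
        rwa [inv_inv] at this
      have h2 := hMmem _ (hS₁n _ h1 n hn)
      have e : y * (y⁻¹ * s * y * n * (y⁻¹ * s * y)⁻¹) * y⁻¹ = s * (y * n * y⁻¹) * s⁻¹ := by
        group
      rw [e] at h2
      exact h2
    by_cases hI : S₁ ⊓ M = ⊥
    · exfalso
      apply hS₁b
      apply solvable_sub_bot hsol hS₀n S₁ hS₁le hS₁n
      apply isSolvable_of_orders
      -- elements of `S₁` and `M` commute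
      have hcom : ∀ m ∈ S₁, ∀ n ∈ M, m * n = n * m := by
        intro m hm n hn
        have hML : M ≤ S₀ := by
          rintro _ ⟨k, hk, rfl⟩
          exact hS₀n.conj_mem k (hS₁le hk) y
        have h1 : m * n * m⁻¹ * n⁻¹ ∈ S₁ ⊓ M := by
          constructor
          · have := mul_mem hm (hS₁n n (hML hn) _ (S₁.inv_mem hm))
            have e : m * (n * m⁻¹ * n⁻¹) = m * n * m⁻¹ * n⁻¹ := by group
            rwa [e] at this
          · exact mul_mem (hMn m (hS₁le hm) n hn) (M.inv_mem hn)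
        rw [hI, Subgroup.mem_bot] at h1
        calc m * n = (m * n * m⁻¹ * n⁻¹) * (n * m) := by group
          _ = n * m := by rw [h1, one_mul]
      rintro ⟨m, hm⟩
      have hyi := h.inv_eq hy
      -- the product of `y` and a conjugate
      have hE : m⁻¹ * y * m ∈ E := by
        have := h.conj m⁻¹ y hy
        rwa [inv_inv] at this
      have hnM : y * m⁻¹ * y⁻¹ ∈ M := hMmem _ (S₁.inv_mem hm)
      have hc : Commute (y * m⁻¹ * y⁻¹) m := (hcom m hm _ hnM).symm
      have hprod : y * (m⁻¹ * y * m) = (y * m⁻¹ * y⁻¹) * m := by rw [hyi]; group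
      have key : ∀ k : ℕ, (y * (m⁻¹ * y * m)) ^ k = 1 → m ^ k = 1 := by
        intro k hk
        rw [hprod, hc.mul_pow] at hk
        have h2 : m ^ k ∈ S₁ ⊓ M := by
          refine ⟨pow_mem hm k, ?_⟩
          have : m ^ k = ((y * m⁻¹ * y⁻¹) ^ k)⁻¹ := by
            rw [eq_inv_iff_mul_eq_one, (hc.symm.pow_pow k k).eq]
            exact hk
          rw [this]
          exact M.inv_mem (pow_mem hnM k)
        rw [hI, Subgroup.mem_bot] at h2
        exact h2
      rcases pow_two_or_three h hy hE with h3 | h3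
      · left
        exact Subtype.ext (key 2 h3)
      · right
        exact Subtype.ext (key 3 h3)
    · have h1 : S₁ ⊓ M = S₁ := by
        apply hmin₁ _ ⟨inf_le_left.trans hS₁le, ?_, hI⟩ inf_le_left
        intro s hs n hn
        exact ⟨hS₁n s hs n hn.1, hMn s hs n hn.2⟩
      have h2 : S₁ ≤ M := by
        rw [← h1]; exact inf_le_right
      have h3 : S₁ = M := by
        apply Subgroup.eq_of_le_of_card_ge h2
        rw [hM]
        exact (Nat.card_congr (S₁.equivMapOfInjective _ (MulAut.conj y).injective).toEquiv).ge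
      intro n hn
      have h4 := hMmem n hn
      rwa [← h3] at h4
  have hn := normal_of_gen h hS₁norm
  have heq : S₁ = S₀ := hmin₀ S₁ ⟨hn, hS₁b⟩ hS₁le
  subst heq
  refine ⟨S₁, hS₀n, hS₀b, ?_⟩
  intro N hN hNn
  by_cases hb : N = ⊥
  · exact Or.inl hb
  · exact Or.inr (hmin₁ N ⟨hN, hNn, hb⟩ hN)

/-- A simple normal subgroup of the kind used below. -/
structure Simp (S : Subgroup K) : Prop where
  normal : S.Normal
  ne : S ≠ ⊥
  simple : ∀ N : Subgroup K, N ≤ S → (∀ s ∈ S, ∀ n ∈ N, s * n * s⁻¹ ∈ N) → N = ⊥ ∨ N = S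

section

variable [Finite K] (h : FData E)
  (hsol : ∀ N : Subgroup K, N.Normal → Group.IsSolvable ↥N → N = ⊥)
  {S : Subgroup K} (hS : Simp S)

omit [Finite K] in
include hsol hS in
theorem not_solvable : ¬ Group.IsSolvable ↥S := fun h1 => hS.ne (hsol S hS.normal h1)

omit [Finite K] in
include hsol hS in
theorem not_comm : ¬ ∀ a ∈ S, ∀ b ∈ S, a * b = b * a := by
  intro h1
  apply not_solvable hsol hS
  apply Group.isSolvable_of_comm
  intro a b
  exact Subtype.ext (h1 a a.2 b b.2)

omit [Finite K] in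
include hS in
theorem mul_conj_mem {e s : K} (hs : s ∈ S) : e * s * e⁻¹ * s⁻¹ ∈ S :=
  mul_mem (hS.normal.conj_mem s hs e) (inv_mem hs)

omit [Finite K] in
include h hsol hS in
/-- a member of `E` does not centralise `S` -/
theorem exists_not_commute_S {e : K} (he : e ∈ E) : ∃ s ∈ S, ¬ Commute s e := by
  by_contra hcon
  push Not at hcon
  apply hS.ne
  rw [eq_bot_iff]
  intro s hs
  have hc : ∀ f ∈ E, Commute s f := by
    intro f hf
    obtain ⟨g, rfl⟩ := h.single e he f hf
    have h1 := hcon (g⁻¹ * s * g) (by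
      have := hS.normal.conj_mem s hs g⁻¹
      rwa [inv_inv] at this)
    have h2 := (FData.commute_conj_gen g (g⁻¹ * s * g) e).2 h1
    have e1 : g * (g⁻¹ * s * g) * g⁻¹ = s := by group
    rwa [e1] at h2
  have h3 := h.mem_center_of_forall_commute hc
  rw [SporadicStructure.FischerPrimitive.center_eq_bot hsol] at h3
  exact h3

/-- the subgroup `[S, e]` -/
def comS (S : Subgroup K) (e : K) : Subgroup K :=
  Subgroup.closure {g | ∃ s ∈ S, g = e * (s * e * s⁻¹)}

omit [Finite K] in
include h hS in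
theorem comS_le {e : K} (he : e ∈ E) : comS S e ≤ S := by
  rw [comS, Subgroup.closure_le]
  rintro _ ⟨s, hs, rfl⟩
  have h1 : e * (s * e * s⁻¹) = e * s * e⁻¹ * s⁻¹ := by
    rw [h.inv_eq he]; group
  rw [h1]
  exact mul_conj_mem hS hs

omit [Finite K] in
include h in
theorem comS_norm {e : K} (he : e ∈ E) {s n : K} (hs : s ∈ S) (hn : n ∈ comS S e) :
    s * n * s⁻¹ ∈ comS S e := by
  have hle : comS S e ≤ (comS S e).comap (MulAut.conj s).toMonoidHom := by
    rw [comS, Subgroup.closure_le]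
    rintro _ ⟨t, ht, rfl⟩
    change s * (e * (t * e * t⁻¹)) * s⁻¹ ∈ Subgroup.closure {g | ∃ s ∈ S, g = e * (s * e * s⁻¹)}
    have h1 : s * (e * (t * e * t⁻¹)) * s⁻¹ =
        (e * (s * e * s⁻¹))⁻¹ * (e * ((s * t) * e * (s * t)⁻¹)) := by
      have h2 : (e * (s * e * s⁻¹))⁻¹ = s * e * s⁻¹ * e := by
        rw [mul_inv_rev, h.inv_eq he]
        congr 1
        rw [mul_inv_rev, mul_inv_rev, inv_inv, h.inv_eq he]; group
      rw [h2]
      calc s * (e * (t * e * t⁻¹)) * s⁻¹ = s * e * (s⁻¹ * 1 * s) * (t * e * t⁻¹) * s⁻¹ := by group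
        _ = s * e * (s⁻¹ * (e * e) * s) * (t * e * t⁻¹) * s⁻¹ := by rw [h.sq e he]
        _ = s * e * s⁻¹ * e * (e * ((s * t) * e * (s * t)⁻¹)) := by group
    rw [h1]
    exact mul_mem (inv_mem (Subgroup.subset_closure ⟨s, hs, rfl⟩))
      (Subgroup.subset_closure ⟨s * t, mul_mem hs ht, rfl⟩)
  exact hle hn

omit [Finite K] in
include h hsol hS in
theorem comS_eq {e : K} (he : e ∈ E) : comS S e = S := by
  rcases hS.simple (comS S e) (comS_le h hS he) (fun s hs n hn => comS_norm h he hs hn) with h1 | h1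
  · exfalso
    obtain ⟨s, hs, hne⟩ := exists_not_commute_S h hsol hS he
    apply hne
    have h2 : e * (s * e * s⁻¹) ∈ comS S e := Subgroup.subset_closure ⟨s, hs, rfl⟩
    rw [h1, Subgroup.mem_bot] at h2
    have h3 : s * e * s⁻¹ = e := by
      calc s * e * s⁻¹ = (e * e) * (s * e * s⁻¹) := by rw [h.sq e he, one_mul]
        _ = e * (e * (s * e * s⁻¹)) := by group
        _ = e := by rw [h2, mul_one]
    show s * e = e * s
    calc s * e = (s * e * s⁻¹) * s := by group
      _ = e * s := by rw [h3]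
  · exact h1

omit [Finite K] in
include h hsol hS in
/-- An element commuting with `e` and all its conjugates under `S` centralises `S`. -/
theorem centralises {e g : K} (he : e ∈ E) (hg : ∀ s ∈ S, Commute g (s * e * s⁻¹)) :
    ∀ s ∈ S, Commute g s := by
  intro s hs
  rw [← comS_eq h hsol hS he] at hs
  have hge : Commute g e := by
    have := hg 1 (one_mem _)
    simpa using this
  have hle : comS S e ≤ Subgroup.centralizer {g} := by
    rw [comS, Subgroup.closure_le]
    rintro _ ⟨t, ht, rfl⟩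
    rw [SetLike.mem_coe, Subgroup.mem_centralizer_singleton_iff]
    exact (hge.mul_right (hg t ht)).symm.eq
  have := Subgroup.mem_centralizer_singleton_iff.1 (hle hs)
  exact this.symm

include h hsol hS in
/-- The centraliser of `S` is trivial. -/
theorem centralizer_bot {g : K} (hg : ∀ s ∈ S, Commute g s) : g = 1 := by
  set C : Subgroup K := Subgroup.centralizer (S : Set K) with hC
  have hCmem : ∀ c : K, c ∈ C ↔ ∀ s ∈ S, Commute c s := by
    intro c
    rw [hC, Subgroup.mem_centralizer_iff]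
    constructor
    · intro h1 s hs
      exact (h1 s hs).symm
    · intro h1 s hs
      exact (h1 s hs).symm
  by_contra hg1
  have hCn : C.Normal := by
    haveI := hS.normal
    rw [hC]; infer_instance
  -- a member of `E` does not centralise `C`
  obtain ⟨x, hx⟩ := h.nonempty
  have hCx : ∃ c ∈ C, ¬ Commute c x := by
    by_contra hcon
    push Not at hcon
    apply hg1
    have hc : ∀ f ∈ E, Commute g f := by
      intro f hf
      obtain ⟨k, rfl⟩ := h.single x hx f hf
      have h1 := hcon (k⁻¹ * g * k) (by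
        have := hCn.conj_mem g ((hCmem g).2 hg) k⁻¹
        rwa [inv_inv] at this)
      have h2 := (FData.commute_conj_gen k (k⁻¹ * g * k) x).2 h1
      have e1 : k * (k⁻¹ * g * k) * k⁻¹ = g := by group
      rwa [e1] at h2
    have h3 := h.mem_center_of_forall_commute hc
    rw [SporadicStructure.FischerPrimitive.center_eq_bot hsol] at h3
    exact Subgroup.mem_bot.1 h3
  obtain ⟨c, hc, hcx⟩ := hCx
  have hxi := h.inv_eq hx
  have hxx := h.sq x hx
  -- the elements `a s = x * (s x s⁻¹)`
  have hSC : ∀ z : K, z ∈ S → z ∈ C → z = 1 := by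
    intro z hz hz'
    rcases hS.simple (S ⊓ C) inf_le_left (fun s hs n hn =>
      ⟨hS.normal.conj_mem n hn.1 s, hCn.conj_mem n hn.2 s⟩) with h1 | h1
    · have : z ∈ S ⊓ C := ⟨hz, hz'⟩
      rw [h1] at this
      exact Subgroup.mem_bot.1 this
    · exfalso
      apply not_comm hsol hS
      intro a ha b hb
      have : a ∈ S ⊓ C := by rw [h1]; exact ha
      exact ((hCmem a).1 this.2 b hb).eq
  have ha : ∀ s ∈ S, x * (s * x * s⁻¹) ∈ S := by
    intro s hs
    have h1 : x * (s * x * s⁻¹) = x * s * x⁻¹ * s⁻¹ := by rw [hxi]; group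
    rw [h1]
    exact mul_conj_mem hS hs
  have hb : x * (c * x * c⁻¹) ∈ C := by
    have h1 : x * (c * x * c⁻¹) = x * c * x⁻¹ * c⁻¹ := by rw [hxi]; group
    rw [h1]
    exact mul_mem (hCn.conj_mem c hc x) (inv_mem hc)
  set b := x * (c * x * c⁻¹) with hbdef
  have hb1 : b ≠ 1 := by
    intro h1
    apply hcx
    have h3 : c * x * c⁻¹ = x := by
      calc c * x * c⁻¹ = (x * x) * (c * x * c⁻¹) := by rw [hxx, one_mul]
        _ = x * b := by rw [hbdef]; group
        _ = x := by rw [h1, mul_one]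
    show c * x = x * c
    calc c * x = (c * x * c⁻¹) * c := by group
      _ = x * c := by rw [h3]
  have key : ∀ s ∈ S, ((x * (s * x * s⁻¹)) ^ 2 = 1 ∧ b ^ 2 = 1) ∨
      ((x * (s * x * s⁻¹)) ^ 3 = 1 ∧ b ^ 3 = 1) := by
    intro s hs
    set a := x * (s * x * s⁻¹) with hadef
    have hab : Commute b a := (hCmem b).1 hb a (ha s hs)
    have h1 : (s * x * s⁻¹) * (c * x * c⁻¹) = a⁻¹ * b := by
      rw [hadef, hbdef]
      rw [mul_inv_rev, hxi]
      have : (s * x * s⁻¹)⁻¹ = s * x * s⁻¹ := by
        rw [mul_inv_rev, mul_inv_rev, inv_inv, hxi]; group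
      rw [this]
      calc (s * x * s⁻¹) * (c * x * c⁻¹) = (s * x * s⁻¹) * 1 * (c * x * c⁻¹) := by group
        _ = (s * x * s⁻¹) * (x * x) * (c * x * c⁻¹) := by rw [hxx]
        _ = _ := by group
    have h2 : ∀ k : ℕ, ((s * x * s⁻¹) * (c * x * c⁻¹)) ^ k = 1 → a ^ k = 1 ∧ b ^ k = 1 := by
      intro k hk
      rw [h1, (hab.symm.inv_left).mul_pow, inv_pow, inv_mul_eq_one] at hk
      have h3 : a ^ k = 1 := hSC _ (pow_mem (ha s hs) k) (by rw [hk]; exact pow_mem hb k)
      exact ⟨h3, by rw [← hk, h3]⟩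
    rcases pow_two_or_three h (h.conj s x hx) (h.conj c x hx) with h3 | h3
    · exact Or.inl (h2 2 h3)
    · exact Or.inr (h2 3 h3)
  have hcontra : ¬ (b ^ 2 = 1 ∧ b ^ 3 = 1) := by
    rintro ⟨h1, h2⟩
    apply hb1
    calc b = b ^ 3 * (b ^ 2)⁻¹ := by group
      _ = 1 := by rw [h1, h2]; group
  by_cases hb2 : b ^ 2 = 1
  · -- all products have order two
    have h2 : ∀ s ∈ S, (x * (s * x * s⁻¹)) ^ 2 = 1 := by
      intro s hs
      rcases key s hs with h3 | h3
      · exact h3.1
      · exact absurd ⟨hb2, h3.2⟩ hcontra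
    have h3 : ∀ s ∈ S, Commute x (s * x * s⁻¹) := by
      intro s hs
      have h4 := h2 s hs
      have hxs : (s * x * s⁻¹) * (s * x * s⁻¹) = 1 := by
        calc (s * x * s⁻¹) * (s * x * s⁻¹) = s * (x * x) * s⁻¹ := by group
          _ = 1 := by rw [hxx]; group
      rw [pow_two] at h4
      show x * (s * x * s⁻¹) = (s * x * s⁻¹) * x
      calc x * (s * x * s⁻¹) = (x * (s * x * s⁻¹)) * (x * (s * x * s⁻¹)) *
            ((s * x * s⁻¹) * x) := by
              calc x * (s * x * s⁻¹) = x * (s * x * s⁻¹) * (x * 1 * x) := by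
                    rw [mul_one, hxx, mul_one]
                _ = x * (s * x * s⁻¹) * (x * ((s * x * s⁻¹) * (s * x * s⁻¹)) * x) := by rw [hxs]
                _ = _ := by group
        _ = _ := by rw [h4, one_mul]
    -- `x` centralises `S`
    apply not_comm hsol hS
    intro u hu v hv
    have h5 : ∀ t ∈ S, ∀ s ∈ S, Commute (t * x * t⁻¹) (s * x * s⁻¹) := by
      intro t ht s hs
      have h6 := h3 (t⁻¹ * s) (mul_mem (inv_mem ht) hs)
      have h7 := (FData.commute_conj_gen t _ _).2 h6
      have e1 : t * (t⁻¹ * s * x * (t⁻¹ * s)⁻¹) * t⁻¹ = s * x * s⁻¹ := by group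
      rwa [e1] at h7
    have h8 : ∀ t ∈ S, ∀ s ∈ S, Commute (t * x * t⁻¹) s := fun t ht =>
      centralises h hsol hS hx (fun s hs => h5 t ht s hs)
    have h9 : ∀ s ∈ S, Commute x s := by
      intro s hs
      have := h8 1 (one_mem _) s hs
      simpa using this
    obtain ⟨s, hs, hne⟩ := exists_not_commute_S h hsol hS hx
    exact absurd (h9 s hs).symm hne
  · have hb3 : ∀ s ∈ S, (x * (s * x * s⁻¹)) ^ 3 = 1 := by
      intro s hs
      rcases key s hs with h3 | h3
      · exact absurd h3.2 hb2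
      · exact h3.1
    -- the conjugates of `x` under `S`
    let T : Set K := {g | ∃ s ∈ S, g = s * x * s⁻¹}
    have hT : Cfsg.Agent.Lib.HallTriple.IsHallSet T := by
      refine ⟨?_, ?_, ?_⟩
      · rintro _ ⟨s, hs, rfl⟩
        exact h.sq _ (h.conj s x hx)
      · rintro _ ⟨s, hs, rfl⟩ _ ⟨t, ht, rfl⟩
        refine ⟨s * (x * (s⁻¹ * t) * x⁻¹), mul_mem hs
          (hS.normal.conj_mem _ (mul_mem (inv_mem hs) ht) x), ?_⟩
        rw [hxi]
        calc s * x * s⁻¹ * (t * x * t⁻¹) * (s * x * s⁻¹)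
            = s * x * s⁻¹ * t * x * t⁻¹ * s * x * s⁻¹ := by group
          _ = s * x * s⁻¹ * t * x⁻¹ * x * x⁻¹ * t⁻¹ * s * x * s⁻¹ := by rw [hxi]; simp [mul_assoc, hxx]
          _ = _ := by rw [hxi]; simp [mul_assoc, hxx, hxi]
      · rintro _ ⟨s, hs, rfl⟩ _ ⟨t, ht, rfl⟩
        have h1 := hb3 (s⁻¹ * t) (mul_mem (inv_mem hs) ht)
        have e1 : (s * x * s⁻¹) * (t * x * t⁻¹) =
            s * (x * (s⁻¹ * t * x * (s⁻¹ * t)⁻¹)) * s⁻¹ := by group
        rw [e1]
        have e2 : (s * (x * (s⁻¹ * t * x * (s⁻¹ * t)⁻¹)) * s⁻¹) ^ 3 =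
            s * (x * (s⁻¹ * t * x * (s⁻¹ * t)⁻¹)) ^ 3 * s⁻¹ := by
          rw [← MulAut.conj_apply, ← map_pow, MulAut.conj_apply]
        rw [e2, h1]; group
    have hp := Cfsg.Agent.Lib.HallTriple.isPGroup_closure_mul hT
    have hle : S ≤ Subgroup.closure {g : K | ∃ a ∈ T, ∃ b ∈ T, g = a * b} := by
      rw [← comS_eq h hsol hS hx, comS]
      apply Subgroup.closure_mono
      rintro _ ⟨s, hs, rfl⟩
      exact ⟨x, ⟨1, one_mem _, by simp⟩, _, ⟨s, hs, rfl⟩, rfl⟩
    apply not_solvable hsol hS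
    haveI : Fact (Nat.Prime 3) := ⟨Nat.prime_three⟩
    have hp' : IsPGroup 3 S := hp.to_le hle
    haveI := hp'.isNilpotent
    infer_instance

/-- the relation of being congruent modulo `S` -/
def rS (E : Set K) (S : Subgroup K) (a b : K) : Prop := a ∈ E ∧ b ∈ E ∧ a * b ∈ S

omit [Finite K] in
include h hS in
theorem invEquiv_rS : InvEquiv E (rS E S) where
  mem_left := fun h1 => h1.1
  refl := fun hx => ⟨hx, hx, by rw [h.sq _ hx]; exact one_mem _⟩
  symm := by
    rintro x y ⟨hx, hy, hxy⟩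
    refine ⟨hy, hx, ?_⟩
    have := inv_mem hxy
    rwa [mul_inv_rev, h.inv_eq hx, h.inv_eq hy] at this
  trans := by
    rintro x y z ⟨hx, hy, hxy⟩ ⟨_, hz, hyz⟩
    refine ⟨hx, hz, ?_⟩
    have := mul_mem hxy hyz
    have e : x * y * (y * z) = x * z := by
      calc x * y * (y * z) = x * (y * y) * z := by group
        _ = x * z := by rw [h.sq y hy, mul_one]
    rwa [e] at this
  conj := by
    rintro g x y ⟨hx, hy, hxy⟩
    refine ⟨h.conj g x hx, h.conj g y hy, ?_⟩
    have := hS.normal.conj_mem _ hxy g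
    have e : g * x * g⁻¹ * (g * y * g⁻¹) = g * (x * y) * g⁻¹ := by group
    rwa [e]

omit [Finite K] in
include h hS in
theorem rS_conj {e s : K} (he : e ∈ E) (hs : s ∈ S) : rS E S e (s * e * s⁻¹) := by
  refine ⟨he, h.conj s e he, ?_⟩
  have h1 : e * (s * e * s⁻¹) = e * s * e⁻¹ * s⁻¹ := by rw [h.inv_eq he]; group
  rw [h1]
  exact mul_conj_mem hS hs

include h hsol hS in
/-- Commuting members of `E` are congruent modulo `S`. -/
theorem mul_mem_of_commute {e f : K} (he : e ∈ E) (hf : f ∈ E) (hc : Commute e f) :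
    e * f ∈ S := by
  by_contra hcon
  have hr := invEquiv_rS h hS
  have hnr : ¬ rS E S e f := fun h1 => hcon h1.2.2
  apply h.ne_one f hf
  apply centralizer_bot h hsol hS
  apply centralises h hsol hS he
  intro s hs
  exact ((hr.commute_iff_of_rel h hf hnr (rS_conj h hS he hs)).1 hc).symm

/-- the block of `e` -/
def Bl (E : Set K) (S : Subgroup K) (e : K) : Set K := {f | f ∈ E ∧ e * f ∈ S}

omit [Finite K] in
theorem mem_Bl {e f : K} : f ∈ Bl E S e ↔ f ∈ E ∧ e * f ∈ S := Iff.rfl

omit [Finite K] in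
include h in
theorem self_mem_Bl {e : K} (he : e ∈ E) : e ∈ Bl E S e :=
  ⟨he, by rw [h.sq e he]; exact one_mem _⟩

omit [Finite K] in
include h hS in
theorem conj_mem_Bl {e s : K} (he : e ∈ E) (hs : s ∈ S) : s * e * s⁻¹ ∈ Bl E S e :=
  ⟨h.conj s e he, (rS_conj h hS he hs).2.2⟩

omit [Finite K] in
include h hsol hS in
theorem S_le {e : K} (he : e ∈ E) : S ≤ Subgroup.closure (Bl E S e) := by
  conv_lhs => rw [← comS_eq h hsol hS he]
  rw [comS, Subgroup.closure_le]
  rintro _ ⟨s, hs, rfl⟩
  exact mul_mem (Subgroup.subset_closure (self_mem_Bl h he))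
    (Subgroup.subset_closure (conj_mem_Bl h hS he hs))

omit [Finite K] in
include h hS in
theorem mem_closure_Bl {e g : K} (he : e ∈ E) (hg : g ∈ Subgroup.closure (Bl E S e)) :
    g ∈ S ∨ e * g ∈ S := by
  have hn := hS.normal
  have hei := h.inv_eq he
  have hee := h.sq e he
  induction hg using Subgroup.closure_induction with
  | mem x hx => exact Or.inr hx.2
  | one => exact Or.inl (one_mem _)
  | mul x y _ _ hx hy =>
    rcases hx with hx | hx <;> rcases hy with hy | hy
    · exact Or.inl (mul_mem hx hy)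
    · right
      have e1 : e * (x * y) = (e * x * e⁻¹) * (e * y) := by group
      rw [e1]
      exact mul_mem (hn.conj_mem x hx e) hy
    · right
      have e1 : e * (x * y) = (e * x) * y := by group
      rw [e1]
      exact mul_mem hx hy
    · left
      have e1 : x * y = (e * (e * x) * e⁻¹) * (e * y) := by
        calc x * y = (e * e) * x * y := by rw [hee, one_mul]
          _ = _ := by group
      rw [e1]
      exact mul_mem (hn.conj_mem _ hx e) hy
  | inv x _ hx =>
    rcases hx with hx | hx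
    · exact Or.inl (inv_mem hx)
    · right
      have e1 : e * x⁻¹ = e * (e * x)⁻¹ * e⁻¹ := by
        rw [mul_inv_rev]
        calc e * x⁻¹ = e * x⁻¹ * (e⁻¹ * e⁻¹) := by rw [hei, hee, mul_one]
          _ = _ := by group
      rw [e1]
      exact hn.conj_mem _ (inv_mem hx) e

omit [Finite K] in
include h hS in
theorem conj_mem_Bl' {e f g : K} (he : e ∈ E) (hg : g ∈ Subgroup.closure (Bl E S e))
    (hf : f ∈ Bl E S e) : g * f * g⁻¹ ∈ Bl E S e := by
  have hr := invEquiv_rS h hS
  have hef : rS E S e f := ⟨he, hf.1, hf.2⟩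
  have h1 : rS E S e (g * e * g⁻¹) := by
    have hee := h.sq e he
    rcases mem_closure_Bl h hS he hg with h2 | h2
    · exact rS_conj h hS he h2
    · have h3 := hr.conj e (rS_conj h hS he h2)
      have e1 : e * e * e⁻¹ = e := by group
      have e2 : e * (e * g * e * (e * g)⁻¹) * e⁻¹ = g * e * g⁻¹ := by
        calc e * (e * g * e * (e * g)⁻¹) * e⁻¹
            = (e * e) * (g * e * g⁻¹) * (e⁻¹ * e⁻¹) := by group
          _ = g * e * g⁻¹ := by rw [h.inv_eq he, hee]; group
      rw [e1, e2] at h3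
      exact h3
  have h2 := hr.trans h1 (hr.conj g hef)
  exact ⟨h2.2.1, h2.2.2⟩

/-- noncommuting members of a set -/
def stp (B : Set K) (a b : K) : Prop := a ∈ B ∧ b ∈ B ∧ ¬ Commute a b

include h hsol hS in
/-- Blocks are connected. -/
theorem connected_Bl {e f : K} (he : e ∈ E) (hf : f ∈ Bl E S e) :
    Relation.ReflTransGen (stp (Bl E S e)) e f := by
  by_contra hcon
  set B := Bl E S e with hB
  let B₁ : Set K := {b | b ∈ B ∧ Relation.ReflTransGen (stp B) e b}
  have heB : e ∈ B := self_mem_Bl h he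
  have he1 : e ∈ B₁ := ⟨heB, Relation.ReflTransGen.refl⟩
  have hcomm : ∀ a ∈ B₁, ∀ b ∈ B, b ∉ B₁ → Commute a b := by
    intro a ha b hb hb1
    by_contra hab
    exact hb1 ⟨hb, ha.2.tail ⟨ha.1, hb, hab⟩⟩
  set L₁ := Subgroup.closure B₁ with hL₁
  have hcent : ∀ b ∈ B, b ∉ B₁ → ∀ n ∈ L₁, Commute n b := by
    intro b hb hb1 n hn
    have hle : L₁ ≤ Subgroup.centralizer {b} := by
      rw [hL₁, Subgroup.closure_le]
      intro a ha
      rw [SetLike.mem_coe, Subgroup.mem_centralizer_singleton_iff]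
      exact (hcomm a ha b hb hb1).eq
    exact Subgroup.mem_centralizer_singleton_iff.1 (hle hn)
  have hnorm : ∀ b ∈ B, ∀ n ∈ L₁, b * n * b⁻¹ ∈ L₁ := by
    intro b hb n hn
    by_cases hb1 : b ∈ B₁
    · exact mul_mem (mul_mem (Subgroup.subset_closure hb1) hn)
        (inv_mem (Subgroup.subset_closure hb1))
    · rw [← (hcent b hb hb1 n hn).eq, mul_inv_cancel_right]
      exact hn
  have hnorm' : ∀ g ∈ Subgroup.closure B, ∀ n ∈ L₁, g * n * g⁻¹ ∈ L₁ := by
    intro g hg
    induction hg using Subgroup.closure_induction with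
    | mem x hx => exact hnorm x hx
    | one => intro n hn; simpa using hn
    | mul x y _ _ hx hy =>
      intro n hn
      have e1 : x * y * n * (x * y)⁻¹ = x * (y * n * y⁻¹) * x⁻¹ := by group
      rw [e1]
      exact hx _ (hy n hn)
    | inv x hx' hx =>
      intro n hn
      have hle : L₁.map (MulAut.conj x).toMonoidHom ≤ L₁ := by
        rintro _ ⟨m, hm, rfl⟩
        exact hx m hm
      have heq : L₁.map (MulAut.conj x).toMonoidHom = L₁ := by
        apply Subgroup.eq_of_le_of_card_ge hle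
        exact (Nat.card_congr
          (L₁.equivMapOfInjective _ (MulAut.conj x).injective).toEquiv).le
      have h1 : n ∈ L₁.map (MulAut.conj x).toMonoidHom := by rw [heq]; exact hn
      obtain ⟨m, hm, hmn⟩ := h1
      have e1 : x⁻¹ * n * x⁻¹⁻¹ = m := by
        rw [← hmn]
        change x⁻¹ * (x * m * x⁻¹) * x⁻¹⁻¹ = m
        group
      rw [e1]; exact hm
  have hSle := S_le h hsol hS he
  have hfB₁ : f ∉ B₁ := fun h1 => hcon h1.2
  rcases hS.simple (L₁ ⊓ S) inf_le_right (fun s hs n hn =>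
    ⟨hnorm' s (hSle hs) n hn.1, hS.normal.conj_mem n hn.2 s⟩) with h1 | h1
  · -- `e` commutes with its conjugates under `S`
    apply h.ne_one e he
    apply centralizer_bot h hsol hS
    apply centralises h hsol hS he
    intro s hs
    by_cases hs1 : s * e * s⁻¹ ∈ B₁
    · have h2 : e * (s * e * s⁻¹) ∈ L₁ ⊓ S :=
        ⟨mul_mem (Subgroup.subset_closure he1) (Subgroup.subset_closure hs1),
          (conj_mem_Bl h hS he hs).2⟩
      rw [h1, Subgroup.mem_bot] at h2
      have h3 : s * e * s⁻¹ = e := by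
        calc s * e * s⁻¹ = (e * e) * (s * e * s⁻¹) := by rw [h.sq e he, one_mul]
          _ = e * (e * (s * e * s⁻¹)) := by group
          _ = e := by rw [h2, mul_one]
      rw [h3]
    · exact hcomm e he1 _ (conj_mem_Bl h hS he hs) hs1
  · apply h.ne_one f hf.1
    apply centralizer_bot h hsol hS
    intro s hs
    have h2 : s ∈ L₁ ⊓ S := by rw [h1]; exact hs
    exact (hcent f hf hfB₁ s h2.1).symm

omit [Finite K] in
include hsol hS in
/-- `S` is perfect. -/
theorem perfect_S : ⁅S, S⁆ = S := by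
  have hle : ⁅S, S⁆ ≤ S := by
    rw [Subgroup.commutator_le]
    intro a ha b hb
    rw [commutatorElement_def]
    exact mul_mem (mul_mem (mul_mem ha hb) (inv_mem ha)) (inv_mem hb)
  rcases hS.simple ⁅S, S⁆ hle (fun s hs n hn => by
    have h3 : s * n * s⁻¹ = ⁅s, n⁆ * n := by rw [commutatorElement_def]; group
    rw [h3]
    exact mul_mem (Subgroup.commutator_mem_commutator hs (hle hn)) hn) with h1 | h1
  · exfalso
    apply not_comm hsol hS
    intro a ha b hb
    have h3 : ⁅a, b⁆ ∈ ⁅S, S⁆ := Subgroup.commutator_mem_commutator ha hb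
    rw [h1, Subgroup.mem_bot, commutatorElement_eq_one_iff_mul_comm] at h3
    exact h3
  · exact h1

/-- The block of `e`, as a subset of the group it generates. -/
def BlSet (E : Set K) (S : Subgroup K) (e : K) : Set ↥(Subgroup.closure (Bl E S e)) :=
  {f | (f : K) ∈ Bl E S e}

omit [Finite K] in
theorem mem_BlSet {e : K} {f : ↥(Subgroup.closure (Bl E S e))} :
    f ∈ BlSet E S e ↔ (f : K) ∈ Bl E S e := Iff.rfl

omit [Finite K] in
include h in
theorem conj_of_rtg {e f : K}
    (hr : Relation.ReflTransGen (stp (Bl E S e)) e f) :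
    ∃ g ∈ Subgroup.closure (Bl E S e), g * e * g⁻¹ = f := by
  induction hr with
  | refl => exact ⟨1, one_mem _, by simp⟩
  | @tail b c _ hbc ih =>
    obtain ⟨g, hg, hgb⟩ := ih
    obtain ⟨hb, hc, hnc⟩ := hbc
    have hb' := Subgroup.subset_closure hb
    have hc' := Subgroup.subset_closure hc
    have hm := mul_mem (mul_mem hb' hc') hb'
    refine ⟨(b * c * b) * g, mul_mem hm hg, ?_⟩
    have h1 := h.third_conj hb.1 hc.1 hnc
    have h2 : (b * c * b)⁻¹ = b * c * b := h.inv_eq (h.conj' hb.1 hc.1)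
    calc (b * c * b) * g * e * ((b * c * b) * g)⁻¹
        = (b * c * b) * (g * e * g⁻¹) * (b * c * b)⁻¹ := by group
      _ = (b * c * b) * b * (b * c * b) := by rw [hgb, h2]
      _ = c := h1

include h hsol hS in
theorem fdata_Bl {e : K} (he : e ∈ E) : FData (BlSet E S e) := by
  refine ⟨?_, ?_, ?_, ?_, ?_, ?_, ?_⟩
  · intro x hx
    exact Subtype.ext (h.sq _ hx.1)
  · intro x hx h1
    exact h.ne_one _ hx.1 (congrArg Subtype.val h1)
  · intro g x hx
    exact conj_mem_Bl' h hS he g.2 hx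
  · intro x hx y hy hxy
    apply Subtype.ext
    apply h.braid _ hx.1 _ hy.1
    intro hc
    exact hxy (Subtype.ext hc.eq)
  · have key : ∀ x ∈ BlSet E S e, ∃ g : ↥(Subgroup.closure (Bl E S e)),
        g * ⟨e, Subgroup.subset_closure (self_mem_Bl h he)⟩ * g⁻¹ = x := by
      intro x hx
      obtain ⟨g, hg, hge⟩ := conj_of_rtg h (connected_Bl h hsol hS he hx)
      exact ⟨⟨g, hg⟩, Subtype.ext hge⟩
    intro x hx y hy
    obtain ⟨g, hg⟩ := key x hx
    obtain ⟨k, hk⟩ := key y hy
    refine ⟨k * g⁻¹, ?_⟩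
    rw [← hg, ← hk]
    group
  · have h1 : (Subgroup.closure (BlSet E S e)).map (Subgroup.closure (Bl E S e)).subtype =
        Subgroup.closure (Bl E S e) := by
      rw [MonoidHom.map_closure]
      congr 1
      ext y
      constructor
      · rintro ⟨a, ha, rfl⟩
        exact ha
      · intro hy
        exact ⟨⟨y, Subgroup.subset_closure hy⟩, hy, rfl⟩
    apply Subgroup.map_injective (Subgroup.closure (Bl E S e)).subtype_injective
    rw [h1, ← MonoidHom.range_eq_map, Subgroup.range_subtype]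
  · exact ⟨⟨e, Subgroup.subset_closure (self_mem_Bl h he)⟩, self_mem_Bl h he⟩

include h hsol hS in
/-- Subgroups containing `S` have no solvable normal subgroups. -/
theorem sol_of_le {L : Subgroup K} (hSL : S ≤ L) :
    ∀ N : Subgroup ↥L, N.Normal → Group.IsSolvable ↥N → N = ⊥ := by
  intro N hN hs
  have hnorm : ∀ g ∈ L, ∀ n ∈ N.map L.subtype, g * n * g⁻¹ ∈ N.map L.subtype := by
    rintro g hg _ ⟨n, hn, rfl⟩
    exact ⟨_, hN.conj_mem n hn ⟨g, hg⟩, rfl⟩
  have hsol' : Group.IsSolvable ↥(N.map L.subtype ⊓ S) := by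
    haveI : Group.IsSolvable ↥N := hs
    have h1 : Group.IsSolvable ↥(N.map L.subtype) := by
      let e1 := (N.equivMapOfInjective L.subtype L.subtype_injective)
      exact Group.isSolvable_of_isSolvable_injective (f := e1.symm.toMonoidHom) e1.symm.injective
    exact Group.isSolvable_of_isSolvable_injective (f := Subgroup.inclusion inf_le_left)
      (Subgroup.inclusion_injective _)
  have hbot := solvable_sub_bot hsol hS.normal (N.map L.subtype ⊓ S) inf_le_right
    (fun s hs' n hn => ⟨hnorm s (hSL hs') n hn.1, hS.normal.conj_mem n hn.2 s⟩) hsol'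
  rw [eq_bot_iff]
  intro n hn
  have h1 : (n : K) ∈ N.map L.subtype := ⟨n, hn, rfl⟩
  have h2 : (n : K) = 1 := by
    apply centralizer_bot h hsol hS
    intro s hs'
    have h3 : (n : K) * s * (n : K)⁻¹ * s⁻¹ ∈ N.map L.subtype ⊓ S := by
      constructor
      · have h4 := mul_mem h1 (hnorm s (hSL hs') _ ((N.map L.subtype).inv_mem h1))
        have e1 : (n : K) * (s * (n : K)⁻¹ * s⁻¹) = (n : K) * s * (n : K)⁻¹ * s⁻¹ := by group
        rwa [e1] at h4
      · exact mul_mem (hS.normal.conj_mem s hs' _) (S.inv_mem hs')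
    rw [hbot, Subgroup.mem_bot] at h3
    show (n : K) * s = s * n
    calc (n : K) * s = ((n : K) * s * (n : K)⁻¹ * s⁻¹) * (s * n) := by group
      _ = s * n := by rw [h3, one_mul]
  exact Subgroup.mem_bot.2 (Subtype.ext h2)

omit [Finite K] in
include h hsol hS in
theorem perf_Bl {e : K} (he : e ∈ E) :
    ⁅commutator ↥(Subgroup.closure (Bl E S e)), commutator ↥(Subgroup.closure (Bl E S e))⁆ =
      commutator ↥(Subgroup.closure (Bl E S e)) := by
  set L := Subgroup.closure (Bl E S e) with hL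
  have hSL : S ≤ L := S_le h hsol hS he
  have hn := hS.normal
  have hei := h.inv_eq he
  have hee := h.sq e he
  -- work in `K`
  have h1 : (commutator L).map L.subtype = ⁅L, L⁆ := by
    rw [commutator_def, Subgroup.map_commutator, ← MonoidHom.range_eq_map, Subgroup.range_subtype]
  have h2 : ⁅L, L⁆ = S := by
    apply le_antisymm
    · rw [Subgroup.commutator_le]
      intro a ha b hb
      rw [commutatorElement_def]
      -- modulo `S` the group is generated by `e`
      have key : ∀ x ∈ L, x ∈ S ∨ ∃ s ∈ S, x = e * s := by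
        intro x hx
        rcases mem_closure_Bl h hS he hx with h3 | h3
        · exact Or.inl h3
        · refine Or.inr ⟨e * x, h3, ?_⟩
          rw [← mul_assoc, hee, one_mul]
      have conjS : ∀ g s : K, s ∈ S → g * s * g⁻¹ ∈ S := fun g s hs => hn.conj_mem s hs g
      have key2 : ∀ x ∈ S, ∀ y : K, x * y * x⁻¹ * y⁻¹ ∈ S := by
        intro x hx y
        have e1 : x * y * x⁻¹ * y⁻¹ = x * (y * x⁻¹ * y⁻¹) := by group
        rw [e1]
        exact mul_mem hx (conjS y _ (inv_mem hx))
      have key3 : ∀ x : K, ∀ y ∈ S, x * y * x⁻¹ * y⁻¹ ∈ S := fun x y hy =>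
        mul_mem (conjS x y hy) (inv_mem hy)
      rcases key a ha with h3 | ⟨s, hs, rfl⟩
      · exact key2 a h3 b
      rcases key b hb with h3 | ⟨t, ht, rfl⟩
      · exact key3 _ b h3
      · have e1 : e * s * (e * t) * (e * s)⁻¹ * (e * t)⁻¹ =
            (e * s * e⁻¹) * ((e * e) * t * s⁻¹ * (e * e)⁻¹) * (e * t⁻¹ * e⁻¹) := by group
        rw [e1, hee]
        refine mul_mem (mul_mem (conjS e s hs) ?_) (conjS e _ (inv_mem ht))
        rw [one_mul, inv_one, mul_one]
        exact mul_mem ht (inv_mem hs)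
    · rw [← perfect_S hsol hS]
      exact Subgroup.commutator_mono hSL hSL
  apply Subgroup.map_injective L.subtype_injective
  rw [Subgroup.map_commutator, h1, h2]
  exact perfect_S hsol hS

include h hsol hS in
/-- Every block is the class of 3-transpositions of an `FGroup`. -/
theorem fgroup_Bl {e : K} (he : e ∈ E) : FGroup (BlSet E S e) :=
  ⟨fdata_Bl h hsol hS he, sol_of_le h hsol hS (S_le h hsol hS he), perf_Bl h hsol hS he⟩

include h hS in
theorem ncard_Bl {e f : K} (he : e ∈ E) (hf : f ∈ E) :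
    (Bl E S e).ncard = (Bl E S f).ncard := by
  obtain ⟨g, rfl⟩ := h.single e he f hf
  have hr := invEquiv_rS h hS
  have h1 : Bl E S (g * e * g⁻¹) = (fun x => g * x * g⁻¹) '' Bl E S e := by
    ext x
    constructor
    · intro hx
      have h2 : rS E S (g * e * g⁻¹) x := ⟨hf, hx.1, hx.2⟩
      have h3 := hr.conj g⁻¹ h2
      have e1 : g⁻¹ * (g * e * g⁻¹) * g⁻¹⁻¹ = e := by group
      rw [e1] at h3
      refine ⟨g⁻¹ * x * g⁻¹⁻¹, ⟨h3.2.1, h3.2.2⟩, ?_⟩
      group
    · rintro ⟨y, hy, rfl⟩
      have h2 := hr.conj g (show rS E S e y from ⟨he, hy.1, hy.2⟩)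
      exact ⟨h2.2.1, h2.2.2⟩
  rw [h1, Set.ncard_image_of_injective]
  intro a b hab
  exact mul_left_cancel (mul_right_cancel hab)

include h hsol hS in
/-- The number of blocks is a power of three. -/
theorem exists_pow {e : K} (he : e ∈ E) : ∃ j : ℕ, E.ncard = 3 ^ j * (Bl E S e).ncard := by
  classical
  have hn := hS.normal
  haveI := hn
  haveI : Fact (Nat.Prime 3) := ⟨Nat.prime_three⟩
  let q : K →* K ⧸ S := QuotientGroup.mk' S
  have hq : ∀ a b : K, a ∈ E → (q a = q b ↔ a * b ∈ S) := by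
    intro a b ha
    change (QuotientGroup.mk a : K ⧸ S) = QuotientGroup.mk b ↔ _
    rw [QuotientGroup.eq, h.inv_eq ha]
  let T : Set (K ⧸ S) := q '' E
  have hT : Cfsg.Agent.Lib.HallTriple.IsHallSet T := by
    refine ⟨?_, ?_, ?_⟩
    · rintro _ ⟨a, ha, rfl⟩
      rw [← map_mul, h.sq a ha, map_one]
    · rintro _ ⟨a, ha, rfl⟩ _ ⟨b, hb, rfl⟩
      exact ⟨a * b * a, h.conj' ha hb, by rw [map_mul, map_mul]⟩
    · rintro _ ⟨a, ha, rfl⟩ _ ⟨b, hb, rfl⟩
      rw [← map_mul, ← map_pow]
      by_cases hc : Commute a b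
      · have h1 := mul_mem_of_commute h hsol hS ha hb hc
        change (QuotientGroup.mk ((a * b) ^ 3) : K ⧸ S) = 1
        rw [QuotientGroup.eq_one_iff]
        exact pow_mem h1 3
      · have hbr := h.braid a ha b hb hc
        have h1 : (a * b) ^ 3 = 1 := by
          calc (a * b) ^ 3 = (a * b * a) * (b * a * b) := by
                simp only [pow_succ, pow_zero, one_mul, mul_assoc]
            _ = (b * a * b) * (b * a * b) := by rw [hbr]
            _ = b * a * (b * b) * a * b := by simp only [mul_assoc]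
            _ = b * (a * a) * b := by rw [h.sq b hb, mul_one]; simp only [mul_assoc]
            _ = 1 := by rw [h.sq a ha, mul_one, h.sq b hb]
        rw [h1, map_one]
  have hp := Cfsg.Agent.Lib.HallTriple.isPGroup_closure_mul hT
  set P : Subgroup (K ⧸ S) := Subgroup.closure {x | ∃ a ∈ T, ∃ b ∈ T, x = a * b} with hP
  -- `T` is an orbit of `P`
  let P' : Subgroup (ConjAct (K ⧸ S)) := P.map (ConjAct.toConjAct (G := K ⧸ S)).toMonoidHom
  have hp' : IsPGroup 3 P' := hp.map _
  have heT : q e ∈ T := ⟨e, he, rfl⟩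
  have horb : MulAction.orbit P' (q e) = T := by
    ext t
    constructor
    · rintro ⟨⟨_, g, hg, rfl⟩, rfl⟩
      change g * q e * g⁻¹ ∈ T
      obtain ⟨k, rfl⟩ := QuotientGroup.mk'_surjective S g
      exact ⟨k * e * k⁻¹, h.conj k e he, by
        rw [map_mul, map_mul, map_inv]⟩
    · intro ht
      have h1 : q e * t * q e ∈ T := hT.conj _ heT _ ht
      have h2 : (q e * t * q e) * q e ∈ P := Subgroup.subset_closure ⟨_, h1, _, heT, rfl⟩
      refine ⟨⟨_, _, h2, rfl⟩, ?_⟩
      change (q e * t * q e * q e) * q e * (q e * t * q e * q e)⁻¹ = t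
      have i1 : (q e)⁻¹ = q e := inv_eq_of_mul_eq_one_left (hT.inv _ heT)
      have i2 : t⁻¹ = t := inv_eq_of_mul_eq_one_left (hT.inv _ ht)
      have hee := hT.inv _ heT
      have htt := hT.inv _ ht
      have hbr := hT.braid heT ht
      have e1 : q e * t * q e * q e = q e * t := by rw [mul_assoc, hee, mul_one]
      rw [e1, mul_inv_rev, i1, i2]
      calc q e * t * q e * (t * q e) = q e * t * q e * t * q e := by simp only [mul_assoc]
        _ = t * q e * t * t * q e := by rw [hbr]
        _ = t * q e * (t * t) * q e := by simp only [mul_assoc]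
        _ = t := by rw [htt, mul_one, mul_assoc, hee, mul_one]
  obtain ⟨j, hj⟩ := hp'.card_orbit (q e)
  refine ⟨j, ?_⟩
  have hTcard : T.ncard = 3 ^ j := by
    rw [← horb, ← hj]; rfl
  -- count fibres
  have hfib : ∀ t ∈ T, {a | a ∈ E ∧ q a = t}.ncard = (Bl E S e).ncard := by
    rintro _ ⟨f, hf, rfl⟩
    rw [ncard_Bl h hS he hf]
    congr 1
    ext a
    constructor
    · rintro ⟨ha, hqa⟩
      exact ⟨ha, (hq f a hf).1 hqa.symm⟩
    · rintro ⟨ha, hqa⟩
      exact ⟨ha, ((hq f a hf).2 hqa).symm⟩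
  have hEfin : E.Finite := Set.toFinite E
  have hTfin : T.Finite := Set.toFinite T
  have h1 : hEfin.toFinset.card = ∑ t ∈ hTfin.toFinset,
      (hEfin.toFinset.filter (fun a => q a = t)).card := by
    apply Finset.card_eq_sum_card_fiberwise
    intro a ha
    rw [Finset.mem_coe, Set.Finite.mem_toFinset] at ha ⊢
    exact ⟨a, ha, rfl⟩
  rw [Set.ncard_eq_toFinset_card E hEfin, h1]
  have h2 : ∀ t ∈ hTfin.toFinset, (hEfin.toFinset.filter (fun a => q a = t)).card =
      (Bl E S e).ncard := by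
    intro t ht
    rw [Set.Finite.mem_toFinset] at ht
    rw [← hfib t ht, ← Set.ncard_coe_finset]
    congr 1
    ext a
    simp
  rw [Finset.sum_congr rfl h2, Finset.sum_const, ← Set.ncard_eq_toFinset_card T hTfin, hTcard,
    smul_eq_mul]

end

end Main

end Cfsg.Agent.Fischer920.WFStruct
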